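import Cfsg.Agent.Lib.SLMinDeg.Class
import Cfsg.Agent.Lib.Characters.Values
import Cfsg.Agent.Lib.Characters.Decomp
import Cfsg.Agent.Lib.CharBound.Irreducible

set_option autoImplicit false
set_option linter.unusedSectionVars false
set_option linter.style.haveILetI false

/-!
Every non-trivial irreducible representation of `SL_n(q)`, `n ≥ 3`, has degree at least
`q + q^2 + ⋯ + q^(n-1)`, outside `(3,2)`, `(3,4)`, `(4,2)`, `(4,3)`.
-/

namespace CfsgLib.SLMinDeg

open Matrix CfsgLib.KnownSimple.ModulePerm CfsgLib.KnownSimple.SLMinIndex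

universe u v

variable {F : Type u} [Field F] [Fintype F] [DecidableEq F] {m : ℕ}

/-- `q + ⋯ + q^(n-1)` -/
def weilDeg (q n : ℕ) : ℕ := ∑ i ∈ Finset.Ico 1 n, q ^ i

theorem weilDeg_succ (q : ℕ) {n : ℕ} (hn : 1 ≤ n) : weilDeg q (n + 1) = weilDeg q n + q ^ n :=
  Finset.sum_Ico_succ_top hn _

theorem weilDeg_mul (q : ℕ) {n : ℕ} (hq : 1 ≤ q) (hn : 1 ≤ n) : (q - 1) * weilDeg q n + q = q ^ n := by
  induction n, hn using Nat.le_induction with
  | base => simp [weilDeg]
  | succ k hk ih =>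
    rw [weilDeg_succ q hk, mul_add, pow_succ]
    obtain ⟨r, rfl⟩ : ∃ r, q = r + 1 := ⟨q - 1, by omega⟩
    simp only [Nat.add_sub_cancel] at ih ⊢
    nlinarith [ih]

theorem weilDeg_le (q : ℕ) {m : ℕ} (hq : 2 ≤ q) (hm : 1 ≤ m) : weilDeg q (m + 1) + 2 ≤ 2 * q ^ m := by
  induction m, hm using Nat.le_induction with
  | base => rw [weilDeg_succ q le_rfl]; simp [weilDeg]; omega
  | succ k hk ih =>
    rw [weilDeg_succ q (by omega), pow_succ]
    nlinarith [ih, Nat.one_le_pow k q (by omega)]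

/-- The elements acting trivially. -/
def trivialSub {G : Type*} [Group G] {V : Type*} [AddCommGroup V] [Module ℂ V] (ρ : Representation ℂ G V) :
    Subgroup G where
  carrier := {x | ρ x = 1}
  one_mem' := map_one ρ
  mul_mem' {a b} ha hb := by
    show ρ (a * b) = 1
    rw [map_mul, show ρ a = 1 from ha, show ρ b = 1 from hb, one_mul]
  inv_mem' {a} ha := by
    have h := map_mul ρ a a⁻¹
    rw [mul_inv_cancel, map_one, show ρ a = 1 from ha, one_mul] at h
    exact h.symm

open scoped commutatorElement in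
theorem exception_free {G : Type*} [Group G] (hG : commutator G = ⊤) {V : Type*} [AddCommGroup V] [Module ℂ V]
    (ρ : Representation ℂ G V) (h1 : Module.finrank ℂ V = 1) (g : G) : ρ g = 1 := by
  obtain ⟨v, hv, hspan⟩ := finrank_eq_one_iff'.mp h1
  have hc : ∀ a b, ρ a * ρ b = ρ b * ρ a := fun a b => LinearMap.ext fun x => by
    obtain ⟨r, rfl⟩ := hspan x
    obtain ⟨s, hs⟩ := hspan (ρ a v)
    obtain ⟨t, ht⟩ := hspan (ρ b v)
    simp only [Module.End.mul_apply, map_smul]
    rw [← ht, map_smul, ← hs, map_smul, ← ht, smul_comm t s]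
  have hle : commutator G ≤ trivialSub ρ := Subgroup.commutator_le.mpr fun a _ b _ => by
    show ρ ⁅a, b⁆ = 1
    rw [commutatorElement_def, map_mul, map_mul, map_mul, hc a b, mul_assoc (ρ b), ← map_mul ρ a,
      mul_inv_cancel, map_one, mul_one, ← map_mul, mul_inv_cancel, map_one]
  exact hle (hG ▸ Subgroup.mem_top g)

section Level

variable {V : Type v} [AddCommGroup V] [Module ℂ V] [FiniteDimensional ℂ V]
variable (ρ : Representation ℂ (SpecialLinearGroup (Fin m ⊕ Unit) F) V)

/-- An irreducible non-trivial representation below twice the Landazuri–Seitz bound satisfies the first rule. -/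
theorem ruleOne_of_small [ρ.IsIrreducible] (hm : 2 ≤ m) (hk2 : 2 ≤ Module.finrank ℂ V)
    (hk : Module.finrank ℂ V + 2 < 2 * Fintype.card F ^ m) : RuleOne ρ := by
  set q := Fintype.card F with hq
  set k := Module.finrank ℂ V with hkdef
  set w₀ : Fin m → F := Pi.single ⟨0, by omega⟩ 1 with hw₀'
  have hw₀ : w₀ ≠ 0 := by simp [hw₀']
  set c := ρ.character (T w₀) with hc
  have hconst : ∀ w : Fin m → F, w ≠ 0 → ρ.character (T w) = c := fun w hw => by
    obtain ⟨g, hg⟩ := isConj_iff.mp (isConj_T hm hw hw₀)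
    rw [hc, ← hg, ρ.char_conj]
  set r : (Fin m → F) → ℕ := fun ψ => Module.finrank ℂ (LinearMap.range (proj ρ T ψ)) with hr
  have htr : ∀ ψ : Fin m → F, (r ψ : ℂ) = LinearMap.trace ℂ V (proj ρ T ψ) := fun ψ =>
    (trace_eq_finrank_range _ (by rw [proj_mul_proj ρ T_add, if_pos rfl])).symm
  have hr' : ∀ ψ : Fin m → F, ψ ≠ 0 → (r ψ : ℂ) = ((q : ℂ) ^ m)⁻¹ * ((k : ℂ) - c) := fun ψ hψ => by
    rw [htr, trace_proj ρ T_zero hconst, if_neg hψ, add_zero, Fintype.card_fin]
  set R := r w₀ with hR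
  have hrR : ∀ ψ : Fin m → F, ψ ≠ 0 → r ψ = R := fun ψ hψ => by
    have := (hr' ψ hψ).trans (hr' w₀ hw₀).symm
    exact_mod_cast this
  have hsum : k = r 0 + (q ^ m - 1) * R := by
    have h1 : (k : ℂ) = ∑ ψ : Fin m → F, (r ψ : ℂ) := by
      simp only [htr, ← map_sum, sum_proj ρ T_add, LinearMap.trace_one, hkdef]
    have h2 : k = ∑ ψ : Fin m → F, r ψ := by exact_mod_cast h1
    rw [h2, ← Finset.add_sum_erase Finset.univ _ (Finset.mem_univ (0 : Fin m → F)),
      Finset.sum_congr rfl fun ψ hψ => hrR ψ (Finset.ne_of_mem_erase hψ), Finset.sum_const,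
      Finset.card_erase_of_mem (Finset.mem_univ _), Finset.card_univ, Fintype.card_fun, Fintype.card_fin,
      smul_eq_mul]
  have hR0 : R ≠ 0 := by
    intro hR0
    have hz : ∀ ψ : Fin m → F, ψ ≠ 0 → proj ρ T ψ = 0 := fun ψ hψ => by
      have : Module.finrank ℂ (LinearMap.range (proj ρ T ψ)) = 0 := (hrR ψ hψ).trans hR0
      exact LinearMap.range_eq_bot.mp (Submodule.finrank_eq_zero.mp this)
    have hT1 : ∀ w : Fin m → F, ρ (T w) = 1 := fun w => by
      rw [rho_eq_sum ρ T_add, Finset.sum_eq_single (0 : Fin m → F) (fun ψ _ hψ => by rw [hz ψ hψ, smul_zero])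
        (by simp), zero_dotProduct, AddChar.map_zero_eq_one, one_smul, ← sum_proj ρ T_add,
        Finset.sum_eq_single (0 : Fin m → F) (fun ψ _ hψ => hz ψ hψ) (by simp)]
    let K := trivialSub ρ
    have hK : K = ⊤ := by
      refine Cfsg.Agent.Classical.sl_subgroup_eq_top_of_transvection_mem K fun i j hij c => ?_
      show ρ _ = 1
      rcases eq_or_ne c 0 with rfl | hc0
      · rw [show SpecialLinearGroup.transvection hij (0 : F) = 1 from Subtype.ext (by
          simp [SpecialLinearGroup.transvection_coe]), map_one]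
      have h0 : (Pi.single j 1 : Fin m ⊕ Unit → F) ⬝ᵥ Pi.single i c = 0 := by
        rw [single_dotProduct, Pi.single_eq_of_ne hij.symm, mul_zero]
      have e : SpecialLinearGroup.transvection hij c = tv (Pi.single i c) (Pi.single j 1) h0 := by
        apply Subtype.ext
        rw [SpecialLinearGroup.transvection_coe, coe_tv, vecMulVec_single_single]
      obtain ⟨w, -, hw⟩ := exists_conj_T (by omega) h0 (by simp [hc0]) (by simp)
      obtain ⟨g, hg⟩ := isConj_iff.mp hw.symm
      rw [e, ← hg, map_mul, map_mul, hT1, mul_one, ← map_mul, mul_inv_cancel, map_one]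
    have := CfsgLib.CharBound.finrank_eq_one_of_trivial ρ inferInstance
      (fun g => (hK ▸ Subgroup.mem_top g : g ∈ K))
    omega
  have hR1 : R = 1 := by
    by_contra hne
    have h2 : 2 ≤ R := by omega
    have h3 : (q ^ m - 1) * 2 ≤ (q ^ m - 1) * R := Nat.mul_le_mul_left _ h2
    omega
  intro u f h hu hf
  obtain ⟨w, hw, hcj⟩ := exists_conj_T (by omega) h hu hf
  obtain ⟨g, hg⟩ := isConj_iff.mp hcj
  rw [← ρ.char_conj (tv u f h) g, hg, hconst w hw, Fintype.card_sum, Fintype.card_fin, Fintype.card_unit,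
    Nat.add_sub_cancel]
  have := hr' w₀ hw₀
  rw [← hR, hR1, Nat.cast_one] at this
  have hq0 : (q : ℂ) ^ m ≠ 0 := pow_ne_zero _ (Nat.cast_ne_zero.mpr Fintype.card_ne_zero)
  field_simp at this
  linear_combination this

/-- Integrality at the class of transvections. -/
theorem degree_dvd [ρ.IsIrreducible] (hm : 2 ≤ m) (h1 : RuleOne ρ) :
    Module.finrank ℂ V ∣ (weilDeg (Fintype.card F) (m + 1) + 1) * (Fintype.card F ^ m - 1) *
      Fintype.card F ^ m := by
  set w₀ : Fin m → F := Pi.single ⟨0, by omega⟩ 1 with hw₀'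
  have hw₀ : w₀ ≠ 0 := by simp [hw₀']
  haveI := CfsgLib.Characters.nontrivial_of_irreducible ρ
  have hk : Module.finrank ℂ V ≠ 0 := Module.finrank_pos.ne'
  have hC := card_transvection_class (F := F) hm hw₀
  have hq : 2 ≤ Fintype.card F := Fintype.one_lt_card
  have hwd := weilDeg_mul (Fintype.card F) (n := m + 1) (by omega) (by omega)
  set C := Nat.card {x : SpecialLinearGroup (Fin m ⊕ Unit) F // IsConj (T w₀) x}
  have hC' : C = (weilDeg (Fintype.card F) (m + 1) + 1) * (Fintype.card F ^ m - 1) := by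
    refine Nat.eq_of_mul_eq_mul_right (by omega : 0 < Fintype.card F - 1) (hC.trans ?_)
    rw [mul_right_comm, add_mul, one_mul, mul_comm (weilDeg _ _)]
    congr 1
    omega
  rw [← hC']
  refine CfsgLib.Characters.nat_dvd_of_isIntegral_div hk ?_
  have hint := CfsgLib.Characters.isIntegral_class_mul_char_div ρ (T w₀)
  rw [char_T h1 hw₀] at hint
  change IsIntegral ℤ ((C : ℂ) * _ / _) at hint
  have hk' : (Module.finrank ℂ V : ℂ) ≠ 0 := Nat.cast_ne_zero.mpr hk
  have e : ((C * Fintype.card F ^ m : ℕ) : ℂ) / (Module.finrank ℂ V : ℂ) = (C : ℂ) -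
      (C : ℂ) * ((Module.finrank ℂ V : ℂ) - (Fintype.card F : ℂ) ^ m) / (Module.finrank ℂ V : ℂ) := by
    push_cast
    field_simp
    ring
  rw [e]
  exact IsIntegral.sub (by simpa using isIntegral_algebraMap (R := ℤ) (A := ℂ) (x := (C : ℤ))) hint

end Level

theorem no_small_three {q k : ℕ} (hp : IsPrimePow q) (h2 : q ≠ 2) (h4 : q ≠ 4)
    (hlo : (q - 1) + (q ^ 2 - 1) ≤ k) (hhi : k + 1 < weilDeg q 3)
    (hd : k ∣ (weilDeg q 3 + 1) * (q ^ 2 - 1) * q ^ 2) : False := by
  have hq : 2 ≤ q := hp.two_le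
  have hW : weilDeg q 3 = q + q ^ 2 := by simp [weilDeg, Finset.sum_Ico_eq_sum_range, Finset.sum_range_succ]
  rw [hW] at hhi hd
  have : 1 ≤ q ^ 2 := Nat.one_le_pow _ _ (by omega)
  have hk : k = (q - 1) * (q + 2) := by
    obtain ⟨r, rfl⟩ : ∃ r, q = r + 1 := ⟨q - 1, by omega⟩
    simp only [Nat.add_sub_cancel] at hlo ⊢
    have e : (r + 1) ^ 2 = r * r + 2 * r + 1 := by ring
    rw [e] at hlo hhi
    have e' : r * (r + 1 + 2) = r * r + 3 * r := by ring
    omega
  have hd2 : q + 2 ∣ (q + q ^ 2 + 1) * (q + 1) * q ^ 2 := by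
    refine Nat.dvd_of_mul_dvd_mul_left (by omega : 0 < q - 1) ?_
    rw [hk] at hd
    refine hd.trans (dvd_of_eq ?_)
    obtain ⟨r, rfl⟩ : ∃ r, q = r + 1 := ⟨q - 1, by omega⟩
    rw [show (r + 1) ^ 2 - 1 = r * (r + 2) by
      rw [show (r + 1) ^ 2 = r * (r + 2) + 1 by ring, Nat.add_sub_cancel]]
    simp only [Nat.add_sub_cancel]
    ring
  have h12 : q + 2 ∣ 12 := by
    obtain ⟨c, hc⟩ := hd2
    have : ((q : ℤ) + 2) ∣ 12 := ⟨(q : ℤ) ^ 4 + 2 * (q : ℤ) ^ 2 - 3 * q + 6 - c, by
      have hc' : ((q : ℤ) + (q : ℤ) ^ 2 + 1) * (q + 1) * (q : ℤ) ^ 2 = ((q : ℤ) + 2) * c := by exact_mod_cast hc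
      linear_combination -hc'⟩
    exact_mod_cast this
  have h10 : q + 2 ≤ 12 := Nat.le_of_dvd (by norm_num) h12
  have hq10 : q ≤ 10 := by omega
  interval_cases q <;> revert h12 hp <;> norm_num <;> simp_all
  intro hp
  obtain ⟨p, e, hp', he, hpe⟩ := hp
  have h2d : p ∣ 10 := hpe ▸ dvd_pow_self p he.ne'
  have hp10 : p ≤ 10 := Nat.le_of_dvd (by norm_num) h2d
  have hpp : p.Prime := hp'.nat_prime
  have he4 : e < 4 := by
    by_contra h
    have := Nat.pow_le_pow_right (n := 2) (by norm_num) (Nat.le_of_not_lt h)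
    have := Nat.pow_le_pow_left hpp.two_le e
    omega
  interval_cases p <;> interval_cases e <;> simp_all <;> exact absurd hpp (by norm_num)

theorem no_pred {q k m : ℕ} (hq : 2 ≤ q) (hm : 2 ≤ m) (hk : k + 1 = weilDeg q (m + 1))
    (hd : k ∣ (weilDeg q (m + 1) + 1) * (q ^ m - 1) * q ^ m) : False := by
  have hW := weilDeg_succ q (n := m) (by omega)
  have hM := weilDeg_mul q (n := m) (by omega) (by omega)
  have hdq : q ∣ weilDeg q (m + 1) := Finset.dvd_sum fun i hi => dvd_pow_self q (by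
    have := (Finset.mem_Ico.mp hi).1; omega)
  have hcop : Nat.Coprime k (q ^ m) := by
    refine Nat.Coprime.pow_right m ?_
    have hg : Nat.gcd k q ∣ 1 := by
      have h1 : Nat.gcd k q ∣ k + 1 := hk ▸ (Nat.gcd_dvd_right k q).trans hdq
      exact (Nat.dvd_add_right (Nat.gcd_dvd_left k q)).mp h1
    exact Nat.eq_one_of_dvd_one hg
  have h1 := hcop.dvd_of_dvd_mul_right hd
  rw [show weilDeg q (m + 1) + 1 = k + 2 by omega, add_mul] at h1
  have h2 : k ∣ 2 * (q ^ m - 1) := (Nat.dvd_add_right (dvd_mul_right k _)).mp h1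
  have hB : q ≤ weilDeg q m := by
    have := Finset.single_le_sum (f := fun i => q ^ i) (fun i _ => Nat.zero_le _)
      (Finset.mem_Ico.mpr ⟨le_rfl, by omega⟩ : 1 ∈ Finset.Ico 1 m)
    simpa [weilDeg] using this
  have hle : weilDeg q m + q ≤ q ^ m := by
    have : 1 * weilDeg q m ≤ (q - 1) * weilDeg q m := Nat.mul_le_mul_right _ (by omega)
    omega
  obtain ⟨c, hc⟩ := h2
  rcases c with _ | _ | c
  · omega
  · omega
  · have : k * 2 ≤ k * (c + 2) := Nat.mul_le_mul_left _ (by omega)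
    have : 1 ≤ q ^ m := Nat.one_le_pow _ _ (by omega)
    obtain ⟨Q, hQ⟩ : ∃ Q, q ^ m = Q + 1 := ⟨q ^ m - 1, by omega⟩
    rw [hQ, Nat.add_sub_cancel] at hc
    have hcc : k * (c + 1 + 1) = k * (c + 2) := rfl
    omega

theorem nontrivial_bound {G : Type*} [Group G] [Finite G] (B : ℕ)
    (hirr : ∀ (V : Type v) [AddCommGroup V] [Module ℂ V] [FiniteDimensional ℂ V] (ρ : Representation ℂ G V),
      ρ.IsIrreducible → (∃ g, ρ g ≠ 1) → B ≤ Module.finrank ℂ V)
    (V : Type v) [AddCommGroup V] [Module ℂ V] [FiniteDimensional ℂ V] (ρ : Representation ℂ G V) :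
    (∃ g, ρ g ≠ 1) → B ≤ Module.finrank ℂ V := by
  refine CfsgLib.Characters.rep_induction (P := fun V _ _ _ ρ => (∃ g, ρ g ≠ 1) → B ≤ Module.finrank ℂ V)
    ?_ hirr ?_ V ρ
  · rintro V _ _ _ ρ hV ⟨g, hg⟩
    exact absurd (LinearMap.ext fun x => Subsingleton.elim _ _) hg
  · rintro V _ _ _ ρ U U' hc hU hU' ⟨g, hg⟩
    by_cases h1 : ∃ g, U.toRepresentation g ≠ 1
    · exact (hU h1).trans (Submodule.finrank_le _)
    by_cases h2 : ∃ g, U'.toRepresentation g ≠ 1
    · exact (hU' h2).trans (Submodule.finrank_le _)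
    push Not at h1 h2
    refine absurd (LinearMap.ext fun x => ?_) hg
    have hx : x ∈ U.toSubmodule ⊔ U'.toSubmodule := by rw [hc.sup_eq_top]; trivial
    obtain ⟨a, ha, b, hb, rfl⟩ := Submodule.mem_sup.mp hx
    have e1 : ρ g a = a := congrArg Subtype.val (LinearMap.congr_fun (h1 g) ⟨a, ha⟩)
    have e2 : ρ g b = b := congrArg Subtype.val (LinearMap.congr_fun (h2 g) ⟨b, hb⟩)
    rw [map_add, e1, e2]; rfl

/-- The excluded pairs. -/
def Exceptional (n q : ℕ) : Prop := (n, q) = (3, 2) ∨ (n, q) = (3, 4) ∨ (n, q) = (4, 2) ∨ (n, q) = (4, 3)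

theorem degree_ge : ∀ (n : ℕ), 3 ≤ n → ¬ Exceptional n (Fintype.card F) →
    ∀ (V : Type v) [AddCommGroup V] [Module ℂ V] [FiniteDimensional ℂ V]
      (ρ : Representation ℂ (SpecialLinearGroup (Fin n) F) V), ρ.IsIrreducible →
      2 ≤ Module.finrank ℂ V → weilDeg (Fintype.card F) n ≤ Module.finrank ℂ V := by
  intro n
  induction n using Nat.strong_induction_on with
  | _ n ih =>
    intro hn hex V _ _ _ ρ₀ hirr₀ hk2
    obtain ⟨m, rfl⟩ : ∃ m, n = m + 1 := ⟨n - 1, by omega⟩
    set q := Fintype.card F with hqdef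
    have hq : 2 ≤ q := Fintype.one_lt_card
    let e : Fin (m + 1) ≃ Fin m ⊕ Unit :=
      finSumFinEquiv.symm.trans (Equiv.sumCongr (Equiv.refl _) (Equiv.ofUnique _ _))
    let φ : SpecialLinearGroup (Fin m ⊕ Unit) F →* SpecialLinearGroup (Fin (m + 1)) F := reindexSL e
    have hsurj : Function.Surjective φ := fun g => ⟨reindexSL e.symm g, Subtype.ext (by
      show ((g : Matrix (Fin (m + 1)) (Fin (m + 1)) F).submatrix e.symm e.symm).submatrix e e = _
      simp)⟩
    set ρ : Representation ℂ (SpecialLinearGroup (Fin m ⊕ Unit) F) V := ρ₀.comp φ with hρ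
    haveI hirr : ρ.IsIrreducible := by
      rw [CfsgLib.Characters.isIrreducible_iff] at hirr₀ ⊢
      refine ⟨hirr₀.1, fun U hU => hirr₀.2 U fun g v hv => ?_⟩
      obtain ⟨x, rfl⟩ := hsurj g
      exact hU x v hv
    by_contra hcon
    push Not at hcon
    have hW := weilDeg_succ q (n := m) (by omega)
    have hle := weilDeg_le q (m := m) hq (by omega)
    have h1 : RuleOne ρ := ruleOne_of_small ρ (by omega) hk2 (by rw [← hqdef]; omega)
    have hexm : (m, q) ≠ (2, 2) ∧ (m, q) ≠ (2, 4) ∧ (m, q) ≠ (3, 2) ∧ (m, q) ≠ (3, 3) := by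
      unfold Exceptional at hex
      simp only [Prod.mk.injEq, ne_eq, not_or] at hex ⊢
      omega
    have hmu : MuOne ρ := muOne (by omega) h1 hexm
    have h2 := ruleTwo_of_muOne (by omega) h1 hmu
    have hdvd := degree_dvd ρ (by omega) h1
    rw [← hqdef] at hdvd
    have hd := finrank_fixed h1
    set k := Module.finrank ℂ V with hkdef
    set d := Module.finrank ℂ (LinearMap.range (proj ρ T (0 : Fin m → F))) with hddef
    have hnat : d + q ^ m = k + 1 := by
      exact_mod_cast (by rw [hd]; ring : (d : ℂ) + (q : ℂ) ^ m = (k : ℂ) + 1)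
    have hchain : ∑ i ∈ Finset.range m, (q ^ i - 1) ≤ d :=
      chain_bound m _ _ (ruleOne_fixed h1 hmu) (ruleTwo_fixed h1 h2 hmu)
    have hq1 : 1 ≤ q ^ m := Nat.one_le_pow _ _ (by omega)
    by_cases hgen : 3 ≤ m ∧ ¬ Exceptional m q
    · have hne : ∃ g, fixedRep ρ g ≠ 1 := by
        have hr1 := ruleOne_fixed h1 hmu
        have h01 : (⟨0, by omega⟩ : Fin m) ≠ ⟨1, by omega⟩ := by simp
        have hdot : (Pi.single ⟨1, by omega⟩ 1 : Fin m → F) ⬝ᵥ Pi.single ⟨0, by omega⟩ 1 = 0 := by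
          rw [single_dotProduct, Pi.single_eq_of_ne h01.symm, mul_zero]
        refine ⟨tv _ _ hdot, fun h => ?_⟩
        have hv := hr1 _ _ hdot (by simp) (by simp)
        rw [Representation.character, h, LinearMap.trace_one] at hv
        exact pow_ne_zero (Fintype.card (Fin m) - 1) (Nat.cast_ne_zero.mpr (Fintype.card_ne_zero (α := F)))
          (sub_eq_self.mp hv.symm)
      have hb : weilDeg q m ≤ d := by
        refine nontrivial_bound (weilDeg q m) (fun W _ _ _ σ hσ hσ' => ih m (by omega) hgen.1 hgen.2 W σ hσ ?_)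
          _ (fixedRep ρ) hne
        haveI := hσ
        haveI := CfsgLib.Characters.nontrivial_of_irreducible σ
        by_contra h
        have h1' : Module.finrank ℂ W = 1 := by
          have := Module.finrank_pos (R := ℂ) (M := W)
          omega
        obtain ⟨g, hg⟩ := hσ'
        exact hg (exception_free (Cfsg.Agent.Classical.sl_commutator_eq_top (by simpa using hgen.1)) σ h1' g)
      exact no_pred (k := k) hq (by omega) (by omega) hdvd
    · rw [not_and_or, not_not] at hgen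
      rcases hgen with h3 | h3
      · obtain rfl : m = 2 := by omega
        simp only [Finset.sum_range_succ, Finset.sum_range_zero, pow_zero, pow_one] at hchain
        rcases eq_or_lt_of_le (show k + 1 ≤ weilDeg q 3 from hcon) with h | h
        · exact no_pred (k := k) hq le_rfl h hdvd
        · exact no_small_three (k := k) (FiniteField.isPrimePow_card F) (fun h0 => hexm.1 (by rw [show q = 2 from h0]))
            (fun h0 => hexm.2.1 (by rw [show q = 4 from h0]))
            (by rw [← hqdef]; omega) h hdvd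
      · unfold Exceptional at hex h3
        simp only [Prod.mk.injEq, not_or] at hex h3
        have key : (m = 3 ∧ q = 4) ∨ (m = 4 ∧ q = 2) ∨ (m = 4 ∧ q = 3) := by omega
        rcases key with ⟨rfl, h0⟩ | ⟨rfl, h0⟩ | ⟨rfl, h0⟩ <;>
          (rw [h0] at hdvd hchain hnat hcon
           simp only [Finset.sum_range_succ, Finset.sum_range_zero, weilDeg, Finset.sum_Ico_eq_sum_range] at hdvd hchain hcon
           norm_num at hdvd hchain hnat hcon
           revert hdvd
           clear hd hkdef hddef hexm hle hW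
           interval_cases k <;> first | omega | norm_num)

end CfsgLib.SLMinDeg
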