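import Cfsg.Agent.Lib.KnownSimple.ModulePermOrbits

set_option autoImplicit false
set_option linter.unusedSectionVars false

/-!
The eigenspace projections of an additive root subgroup `T : F^κ → G` in a complex representation.
-/

namespace CfsgLib.SLMinDeg

open Matrix CfsgLib.KnownSimple.ModulePerm

variable {G V : Type*} [Group G] [AddCommGroup V] [Module ℂ V]
variable {F : Type*} [Field F] [Fintype F] {κ : Type*} [Fintype κ]

theorem card_fun_ne_zero : (Fintype.card F : ℂ) ^ Fintype.card κ ≠ 0 :=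
  pow_ne_zero _ (Nat.cast_ne_zero.mpr Fintype.card_ne_zero)

variable [DecidableEq κ] [DecidableEq F]

theorem sum_chi (ψ : κ → F) :
    ∑ w : κ → F, chi F (ψ ⬝ᵥ w) = if ψ = 0 then (Fintype.card F : ℂ) ^ Fintype.card κ else 0 := by
  classical
  have h := AddChar.sum_eq_ite (psiChar ψ)
  simp only [psiChar_apply] at h
  rw [h]
  have : psiChar ψ = 0 ↔ ψ = 0 := by
    have h0 : psiChar (0 : κ → F) = 0 := by
      refine DFunLike.ext _ _ fun w => ?_
      rw [psiChar_apply, zero_dotProduct, AddChar.map_zero_eq_one]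
      rfl
    rw [← h0, psiChar_bijective.injective.eq_iff]
  simp [this]

theorem sum_chi_left (w : κ → F) :
    ∑ ψ : κ → F, chi F (ψ ⬝ᵥ w) = if w = 0 then (Fintype.card F : ℂ) ^ Fintype.card κ else 0 := by
  simp only [dotProduct_comm _ w]
  exact sum_chi w

/-- The projection on the `ψ`-eigenspace of `T`. -/
noncomputable def proj (ρ : Representation ℂ G V) (T : (κ → F) → G) (ψ : κ → F) : Module.End ℂ V :=
  ((Fintype.card F : ℂ) ^ Fintype.card κ)⁻¹ • ∑ w, chi F (-(ψ ⬝ᵥ w)) • ρ (T w)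

variable (ρ : Representation ℂ G V) {T : (κ → F) → G} (hT : ∀ v w, T v * T w = T (v + w))

include hT

theorem root_zero : T 0 = 1 := by
  have h := hT 0 0
  rw [add_zero] at h
  exact mul_eq_left.mp h

theorem rho_mul_proj (v ψ : κ → F) : ρ (T v) * proj ρ T ψ = chi F (ψ ⬝ᵥ v) • proj ρ T ψ := by
  simp only [proj, Finset.mul_sum, mul_smul_comm, Finset.smul_sum, smul_smul]
  refine Fintype.sum_equiv (Equiv.addLeft v) _ _ fun w => ?_
  rw [← map_mul, hT, Equiv.coe_addLeft]
  congr 1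
  rw [mul_left_comm, ← AddChar.map_add_eq_mul, dotProduct_add]
  ring_nf

theorem proj_mul_proj (ψ φ : κ → F) : proj ρ T ψ * proj ρ T φ = if ψ = φ then proj ρ T ψ else 0 := by
  conv_lhs => arg 1; rw [proj]
  rw [smul_mul_assoc, Finset.sum_mul]
  simp only [smul_mul_assoc, rho_mul_proj ρ hT, smul_smul, ← Finset.sum_smul, ← AddChar.map_add_eq_mul]
  have : ∀ w : κ → F, -(ψ ⬝ᵥ w) + φ ⬝ᵥ w = (φ - ψ) ⬝ᵥ w := fun w => by rw [sub_dotProduct]; ring
  simp only [this, sum_chi, sub_eq_zero, eq_comm (a := φ)]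
  split_ifs with h
  · rw [h, inv_mul_cancel₀ card_fun_ne_zero, one_smul]
  · simp

theorem sum_proj : ∑ ψ : κ → F, proj ρ T ψ = 1 := by
  simp only [proj, ← Finset.smul_sum]
  rw [Finset.sum_comm]
  simp only [← Finset.sum_smul, ← neg_dotProduct]
  rw [Finset.sum_eq_single (0 : κ → F)]
  · rw [show ∑ ψ : κ → F, chi F (-ψ ⬝ᵥ 0) = (Fintype.card F : ℂ) ^ Fintype.card κ by simp,
      root_zero hT, map_one, smul_smul, inv_mul_cancel₀ card_fun_ne_zero, one_smul]
  · intro w _ hw
    rw [Fintype.sum_equiv (Equiv.neg _) (fun ψ => chi F (-ψ ⬝ᵥ w)) (fun ψ => chi F (ψ ⬝ᵥ w))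
      (fun ψ => rfl), sum_chi_left, if_neg hw, zero_smul]
  · simp

theorem rho_eq_sum (v : κ → F) : ρ (T v) = ∑ ψ : κ → F, chi F (ψ ⬝ᵥ v) • proj ρ T ψ := by
  conv_lhs => rw [← mul_one (ρ (T v)), ← sum_proj ρ hT, Finset.mul_sum]
  exact Finset.sum_congr rfl fun ψ _ => rho_mul_proj ρ hT v ψ

omit hT in
/-- An element normalising the root subgroup permutes the projections. -/
theorem rho_mul_proj_of_normalizes (l : G) (A : (κ → F) ≃ (κ → F)) (hl : ∀ w, l * T w = T (A w) * l)
    (ψ φ : κ → F) (hψ : ∀ w, ψ ⬝ᵥ A w = φ ⬝ᵥ w) : ρ l * proj ρ T φ = proj ρ T ψ * ρ l := by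
  simp only [proj, mul_smul_comm, smul_mul_assoc, Finset.mul_sum, Finset.sum_mul]
  congr 1
  refine Fintype.sum_equiv A _ _ fun w => ?_
  rw [← map_mul, ← map_mul, hl, hψ]

variable [FiniteDimensional ℂ V]

omit hT in
theorem trace_proj (hT0 : T 0 = 1) {c : ℂ} (hc : ∀ w, w ≠ 0 → ρ.character (T w) = c) (ψ : κ → F) :
    LinearMap.trace ℂ V (proj ρ T ψ) =
      ((Fintype.card F : ℂ) ^ Fintype.card κ)⁻¹ * ((Module.finrank ℂ V : ℂ) - c +
        if ψ = 0 then (Fintype.card F : ℂ) ^ Fintype.card κ * c else 0) := by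
  have h0 : ρ.character (1 : G) = (Module.finrank ℂ V : ℂ) := by simp
  have : ∀ w, chi F (-(ψ ⬝ᵥ w)) * ρ.character (T w) =
      chi F (-ψ ⬝ᵥ w) * c + (if w = 0 then (Module.finrank ℂ V : ℂ) - c else 0) := fun w => by
    rw [neg_dotProduct]
    split_ifs with h
    · subst h; rw [hT0, h0, dotProduct_zero, neg_zero, AddChar.map_zero_eq_one]; ring
    · rw [hc w h, add_zero]
  rw [proj, map_smul, map_sum, smul_eq_mul]
  congr 1
  calc ∑ w, LinearMap.trace ℂ V (chi F (-(ψ ⬝ᵥ w)) • ρ (T w))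
      = ∑ w, chi F (-(ψ ⬝ᵥ w)) * ρ.character (T w) := by simp [Representation.character]
    _ = _ := by
        simp only [this, Finset.sum_add_distrib, ← Finset.sum_mul, sum_chi, neg_eq_zero,
          Finset.sum_ite_eq', Finset.mem_univ, if_true]
        split_ifs <;> ring

omit [DecidableEq κ] [DecidableEq F] hT [Fintype F] [Fintype κ] [Field F] in
theorem trace_eq_finrank_range (E : Module.End ℂ V) (hE : E * E = E) :
    LinearMap.trace ℂ V E = (Module.finrank ℂ (LinearMap.range E) : ℂ) := by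
  refine LinearMap.IsProj.trace (p := LinearMap.range E) ⟨fun x => LinearMap.mem_range_self E x, fun x hx => ?_⟩
  obtain ⟨y, rfl⟩ := hx
  rw [← Module.End.mul_apply, hE]

omit [DecidableEq κ] [DecidableEq F] hT [Fintype F] [Fintype κ] [Field F] in
/-- A map commuting with a rank one idempotent acts on it as a scalar. -/
theorem mul_eq_trace_smul (E A : Module.End ℂ V) (hE : E * E = E) (h1 : LinearMap.trace ℂ V E = 1)
    (hA : Commute A E) : A * E = LinearMap.trace ℂ V (A * E) • E := by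
  have hr : Module.finrank ℂ (LinearMap.range E) = 1 := by
    have h2 := trace_eq_finrank_range E hE
    rw [h1] at h2
    exact_mod_cast h2.symm
  obtain ⟨⟨v, hv⟩, hv0, hspan⟩ := finrank_eq_one_iff'.mp hr
  have hEv : E v = v := by
    obtain ⟨y, rfl⟩ := hv
    rw [← Module.End.mul_apply, hE]
  obtain ⟨a, ha⟩ := hspan ⟨A v, ⟨A v, by rw [← Module.End.mul_apply, ← hA.eq, Module.End.mul_apply, hEv]⟩⟩
  have ha' : A v = a • v := (congrArg Subtype.val ha).symm
  have hAE : A * E = a • E := by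
    refine LinearMap.ext fun x => ?_
    obtain ⟨b, hb⟩ := hspan ⟨E x, LinearMap.mem_range_self E x⟩
    have hb' : E x = b • v := (congrArg Subtype.val hb).symm
    rw [Module.End.mul_apply, LinearMap.smul_apply, hb', map_smul, ha', smul_comm]
  rw [hAE, map_smul, h1, smul_eq_mul, mul_one]

end CfsgLib.SLMinDeg
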