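import Cfsg.Agent.Lib.SLMinDeg.Fourier
import Cfsg.Agent.Lib.KnownSimple.SLMinIndex

set_option autoImplicit false
set_option linter.unusedSectionVars false

/-! Coordinates for `SL_(m+1)`: conjugating transvections and pairs of transvections into the parabolic. -/

namespace CfsgLib.SLMinDeg

open Matrix CfsgLib.KnownSimple.ModulePerm CfsgLib.KnownSimple.SLMinIndex

variable {F : Type*} [Field F] [Fintype F] [DecidableEq F] {m : ℕ}

theorem elim_ne_zero {w : Fin m → F} (hw : w ≠ 0) : (Sum.elim w 0 : Fin m ⊕ Unit → F) ≠ 0 :=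
  fun h => hw (funext fun i => congrFun h (Sum.inl i))

theorem eLast_ne_zero : (eLast : Fin m ⊕ Unit → F) ≠ 0 := fun h => by
  simpa [eLast] using congrFun h (Sum.inr ())

theorem emb_tv (a f : Fin m → F) (h : f ⬝ᵥ a = 0) :
    emb (tv a f h) = tv (Sum.elim a 0) (Sum.elim f 0) (by simpa [dotProduct, Fintype.sum_sum_type] using h) := by
  apply Subtype.ext
  show fromBlocks (tv a f h : Matrix (Fin m) (Fin m) F) 0 0 1 = _
  rw [coe_tv, coe_tv]
  ext (i | i) (j | j) <;> simp [vecMulVec_apply, Matrix.one_apply]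

theorem T_add (v w : Fin m → F) : T v * T w = T (v + w) := T_mul v w

/-- An element moving the axis `f` onto the last one. -/
theorem exists_axis {f : Fin m ⊕ Unit → F} (hm : 1 ≤ m) (hf : f ≠ 0) :
    ∃ g : SpecialLinearGroup (Fin m ⊕ Unit) F,
      (g : Matrix (Fin m ⊕ Unit) (Fin m ⊕ Unit) F).transpose *ᵥ eLast = f := by
  obtain ⟨P, hP⟩ := sl_transitive (F := F) (κ := Fin m ⊕ Unit) (by simp; omega) eLast_ne_zero hf
  exact ⟨P.transpose, by rw [Matrix.SpecialLinearGroup.coe_transpose, transpose_transpose, hP]⟩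

theorem dot_moved {g : SpecialLinearGroup (Fin m ⊕ Unit) F} {f u f' : Fin m ⊕ Unit → F}
    (h : (g : Matrix (Fin m ⊕ Unit) (Fin m ⊕ Unit) F).transpose *ᵥ f' = f) :
    f' ⬝ᵥ ((g : Matrix (Fin m ⊕ Unit) (Fin m ⊕ Unit) F) *ᵥ u) = f ⬝ᵥ u := by
  rw [dotProduct_mulVec, ← mulVec_transpose, h]

theorem exists_eq_elim {u : Fin m ⊕ Unit → F} (h : (eLast : Fin m ⊕ Unit → F) ⬝ᵥ u = 0) :
    u = Sum.elim (fun i => u (Sum.inl i)) 0 := by
  funext x
  rcases x with i | ⟨⟩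
  · rfl
  · simpa [eLast, dotProduct, Fintype.sum_sum_type] using h

/-- A non-trivial transvection is conjugate to a member of `T`. -/
theorem exists_conj_T (hm : 1 ≤ m) {u f : Fin m ⊕ Unit → F} (h : f ⬝ᵥ u = 0) (hu : u ≠ 0) (hf : f ≠ 0) :
    ∃ w : Fin m → F, w ≠ 0 ∧ IsConj (tv u f h) (T w) := by
  obtain ⟨g, hg⟩ := exists_axis hm hf
  set u' := (g : Matrix (Fin m ⊕ Unit) (Fin m ⊕ Unit) F) *ᵥ u with hu'
  have h' : eLast ⬝ᵥ u' = 0 := by rw [hu', dot_moved hg, h]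
  refine ⟨fun i => u' (Sum.inl i), fun h0 => hu ?_, isConj_iff.mpr ⟨g, ?_⟩⟩
  · have hz : u' = 0 := by
      rw [exists_eq_elim h', h0]
      funext x; rcases x with i | i <;> rfl
    have h2 := congrArg (fun z => ((g⁻¹ : SpecialLinearGroup (Fin m ⊕ Unit) F) :
      Matrix (Fin m ⊕ Unit) (Fin m ⊕ Unit) F) *ᵥ z) hz
    simp only [hu', mulVec_mulVec, ← Matrix.SpecialLinearGroup.coe_mul, inv_mul_cancel,
      Matrix.SpecialLinearGroup.coe_one, one_mulVec, mulVec_zero] at h2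
    exact h2
  · rw [mul_inv_eq_iff_eq_mul, mul_tv h h' hu'.symm hg]
    congr 1
    exact tv_congr h' _ (exists_eq_elim h') rfl

theorem isConj_T (hm : 2 ≤ m) {v w : Fin m → F} (hv : v ≠ 0) (hw : w ≠ 0) :
    IsConj (T v : SpecialLinearGroup (Fin m ⊕ Unit) F) (T w) := by
  obtain ⟨g, hg⟩ := sl_transitive (F := F) (κ := Fin m) (by simpa using hm) hv hw
  exact isConj_iff.mpr ⟨emb g, by rw [mul_inv_eq_iff_eq_mul, emb_mul_T, hg]⟩

/-- Two transvections with independent centres and axes, the second axis killing the first centre,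
are simultaneously conjugate into the parabolic. -/
theorem exists_conj_pair (hm : 1 ≤ m) {u f v g : Fin m ⊕ Unit → F} (h₁ : f ⬝ᵥ u = 0) (h₂ : g ⬝ᵥ v = 0)
    (hgu : g ⬝ᵥ u = 0) (huv : LinearIndependent F ![u, v]) (hfg : LinearIndependent F ![f, g]) :
    ∃ (a f' w : Fin m → F) (h : f' ⬝ᵥ a = 0), a ≠ 0 ∧ f' ≠ 0 ∧ (∀ c : F, c • a + w ≠ 0) ∧
      IsConj (tv u f h₁ * tv v g h₂) (emb (tv a f' h) * T w) := by
  have hg0 : g ≠ 0 := by simpa using hfg.ne_zero 1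
  obtain ⟨P, hP⟩ := exists_axis hm hg0
  set M : Matrix (Fin m ⊕ Unit) (Fin m ⊕ Unit) F := (P : Matrix (Fin m ⊕ Unit) (Fin m ⊕ Unit) F) with hM
  set Mi : Matrix (Fin m ⊕ Unit) (Fin m ⊕ Unit) F :=
    ((P⁻¹ : SpecialLinearGroup (Fin m ⊕ Unit) F) : Matrix (Fin m ⊕ Unit) (Fin m ⊕ Unit) F) with hMi
  have hMiM : Mi * M = 1 := by
    rw [hM, hMi, ← Matrix.SpecialLinearGroup.coe_mul, inv_mul_cancel, Matrix.SpecialLinearGroup.coe_one]
  have hinj : Function.Injective fun z => M *ᵥ z := fun x y hxy => by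
    have := congrArg (fun z => Mi *ᵥ z) hxy
    simpa [mulVec_mulVec, hMiM] using this
  set f₀ := Mi.transpose *ᵥ f with hf₀
  have hf₀' : M.transpose *ᵥ f₀ = f := by
    rw [hf₀, mulVec_mulVec, ← transpose_mul, hMiM, transpose_one, one_mulVec]
  have hu0 : eLast ⬝ᵥ (M *ᵥ u) = 0 := by rw [dot_moved hP, hgu]
  have hv0 : eLast ⬝ᵥ (M *ᵥ v) = 0 := by rw [dot_moved hP, h₂]
  have h₁' : f₀ ⬝ᵥ (M *ᵥ u) = 0 := by rw [dot_moved hf₀', h₁]
  set a : Fin m → F := fun i => (M *ᵥ u) (Sum.inl i) with ha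
  set w₀ : Fin m → F := fun i => (M *ᵥ v) (Sum.inl i) with hw₀
  set f₁ : Fin m → F := fun i => f₀ (Sum.inl i) with hf₁
  set α : F := f₀ (Sum.inr ()) with hα
  have hau : M *ᵥ u = Sum.elim a 0 := exists_eq_elim hu0
  have hwv : M *ᵥ v = Sum.elim w₀ 0 := exists_eq_elim hv0
  have hfe : f₀ = Sum.elim f₁ (fun _ => α) := by
    funext x; rcases x with i | ⟨⟩ <;> rfl
  have hfa : f₁ ⬝ᵥ a = 0 := by
    rw [hfe, hau] at h₁'
    simpa [dotProduct, Fintype.sum_sum_type] using h₁'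
  have hli : ∀ c d : F, c • u + d • v = 0 → c = 0 ∧ d = 0 := fun c d => LinearIndependent.pair_iff.mp huv c d
  have hcomb : ∀ c d : F, c • a + d • w₀ = 0 → c = 0 ∧ d = 0 := fun c d hcd => hli c d (hinj (by
    show M *ᵥ (c • u + d • v) = M *ᵥ 0
    rw [mulVec_add, mulVec_smul, mulVec_smul, hau, hwv, mulVec_zero]
    funext x; rcases x with i | i
    · exact congrFun hcd i
    · simp))
  have ha0 : a ≠ 0 := fun h0 => one_ne_zero (hcomb 1 0 (by rw [h0]; simp)).1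
  have hf10 : f₁ ≠ 0 := by
    intro h0
    have : f = α • g := by
      rw [← hf₀', ← hP, ← mulVec_smul, hfe, h0]
      congr 1
      funext x; rcases x with i | i <;> simp [eLast]
    have := (LinearIndependent.pair_iff.mp hfg 1 (-α) (by rw [this]; module)).1
    exact one_ne_zero this
  refine ⟨a, f₁, w₀ + α • a, hfa, ha0, hf10, fun c hc => one_ne_zero (hcomb (c + α) 1 (by rw [← hc]; module)).2,
    isConj_iff.mpr ⟨P, ?_⟩⟩
  have hlw : ((tv a f₁ hfa : SpecialLinearGroup (Fin m) F) : Matrix (Fin m) (Fin m) F) *ᵥ a = a := by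
    rw [tv_mulVec, hfa, zero_smul, add_zero]
  rw [mul_inv_eq_iff_eq_mul, ← mul_assoc, mul_tv h₁ h₁' rfl hf₀', mul_assoc,
    mul_tv h₂ hv0 rfl hP, ← mul_assoc]
  congr 1
  have e1 : tv (M *ᵥ u) f₀ h₁' = emb (tv a f₁ hfa) * T (α • a) := by
    rw [emb_mul_T, mulVec_smul, hlw, coe_emb_tv]
    exact tv_congr _ _ hau hfe
  have e2 : tv (M *ᵥ v) eLast hv0 = T w₀ := tv_congr hv0 _ hwv rfl
  rw [e1, e2, mul_assoc, T_add, add_comm]

end CfsgLib.SLMinDeg
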