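import Cfsg.Agent.Lib.SLMinDeg.Mu

set_option autoImplicit false
set_option linter.unusedSectionVars false

/-! The size of the class of transvections. -/

namespace CfsgLib.SLMinDeg

open Matrix CfsgLib.KnownSimple.ModulePerm CfsgLib.KnownSimple.SLMinIndex

universe u

variable {F : Type u} [Field F] [Fintype F] [DecidableEq F] {m : ℕ}

theorem card_dot_ker {n : ℕ} {κ : Type*} [Fintype κ] [DecidableEq κ] (hκ : Fintype.card κ = n + 1) {u : κ → F}
    (hu : u ≠ 0) : Nat.card {f : κ → F // f ≠ 0 ∧ f ⬝ᵥ u = 0} + 1 = Fintype.card F ^ n := by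
  classical
  obtain ⟨g, -, hg⟩ := exists_dot (U := (⊥ : Submodule F (κ → F))) (v := u) (by simpa using hu)
  let L : (κ → F) →ₗ[F] F := dotProductBilin F F u
  have hsurj : Function.Surjective L := fun t => ⟨t • g, by
    show u ⬝ᵥ (t • g) = t
    rw [dotProduct_smul, dotProduct_comm, hg, smul_eq_mul, mul_one]⟩
  have hrk := LinearMap.finrank_range_add_finrank_ker L
  rw [LinearMap.range_eq_top.mpr hsurj, finrank_top, Module.finrank_self, Module.finrank_fintype_fun_eq_card,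
    hκ] at hrk
  have hk : Fintype.card (LinearMap.ker L) = Fintype.card F ^ n := by
    rw [Module.card_eq_pow_finrank (K := F), show Module.finrank F (LinearMap.ker L) = n by omega]
  have e : {f : κ → F // f ≠ 0 ∧ f ⬝ᵥ u = 0} ≃ {x : LinearMap.ker L // x ≠ 0} :=
    { toFun := fun f => ⟨⟨f.1, LinearMap.mem_ker.mpr ((dotProduct_comm u f.1).trans f.2.2)⟩,
        fun h => f.2.1 (congrArg Subtype.val h)⟩
      invFun := fun x => ⟨x.1.1, fun h => x.2 (Subtype.ext h),
        (dotProduct_comm x.1.1 u).trans (LinearMap.mem_ker.mp x.1.2)⟩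
      left_inv := fun _ => rfl
      right_inv := fun _ => rfl }
  rw [Nat.card_congr e, Nat.card_eq_fintype_card, Fintype.card_subtype_compl, Fintype.card_subtype_eq, hk]
  have : 1 ≤ Fintype.card F ^ n := Nat.one_le_pow _ _ Fintype.card_pos
  omega

theorem card_flags :
    Nat.card {p : (Fin m ⊕ Unit → F) × (Fin m ⊕ Unit → F) // p.1 ≠ 0 ∧ p.2 ≠ 0 ∧ p.2 ⬝ᵥ p.1 = 0} =
      (Fintype.card F ^ (m + 1) - 1) * (Fintype.card F ^ m - 1) := by
  classical
  have e : {p : (Fin m ⊕ Unit → F) × (Fin m ⊕ Unit → F) // p.1 ≠ 0 ∧ p.2 ≠ 0 ∧ p.2 ⬝ᵥ p.1 = 0} ≃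
      Σ u : {u : Fin m ⊕ Unit → F // u ≠ 0}, {f : Fin m ⊕ Unit → F // f ≠ 0 ∧ f ⬝ᵥ u.1 = 0} :=
    { toFun := fun p => ⟨⟨p.1.1, p.2.1⟩, p.1.2, p.2.2⟩
      invFun := fun x => ⟨(x.1.1, x.2.1), x.1.2, x.2.2⟩
      left_inv := fun _ => rfl
      right_inv := fun _ => rfl }
  rw [Nat.card_congr e, Nat.card_sigma]
  have hf : ∀ u : {u : Fin m ⊕ Unit → F // u ≠ 0},
      Nat.card {f : Fin m ⊕ Unit → F // f ≠ 0 ∧ f ⬝ᵥ u.1 = 0} = Fintype.card F ^ m - 1 := fun u => by
    have := card_dot_ker (n := m) (by simp) u.2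
    omega
  rw [Finset.sum_congr rfl fun u _ => hf u, Finset.sum_const, Finset.card_univ, smul_eq_mul,
    Fintype.card_subtype_compl, Fintype.card_subtype_eq, Fintype.card_fun, Fintype.card_sum, Fintype.card_fin,
    Fintype.card_unit]

theorem card_transvection_class (hm : 2 ≤ m) {w₀ : Fin m → F} (hw₀ : w₀ ≠ 0) :
    Nat.card {x : SpecialLinearGroup (Fin m ⊕ Unit) F // IsConj (T w₀) x} * (Fintype.card F - 1) =
      (Fintype.card F ^ (m + 1) - 1) * (Fintype.card F ^ m - 1) := by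
  classical
  set C := {x : SpecialLinearGroup (Fin m ⊕ Unit) F // IsConj (T w₀) x}
  set S := {p : (Fin m ⊕ Unit → F) × (Fin m ⊕ Unit → F) // p.1 ≠ 0 ∧ p.2 ≠ 0 ∧ p.2 ⬝ᵥ p.1 = 0}
  have sec : ∀ x : C, ∃ p : S, tv p.1.1 p.1.2 p.2.2.2 = x.1 := by
    rintro ⟨x, hx⟩
    obtain ⟨g, hg⟩ := isConj_iff.mp hx
    set M := (g : Matrix (Fin m ⊕ Unit) (Fin m ⊕ Unit) F)
    set f := ((g⁻¹ : SpecialLinearGroup (Fin m ⊕ Unit) F) : Matrix (Fin m ⊕ Unit) (Fin m ⊕ Unit) F).transpose *ᵥ
      (eLast : Fin m ⊕ Unit → F) with hf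
    have hfM : M.transpose *ᵥ f = eLast := by
      rw [hf, mulVec_mulVec, ← transpose_mul, ← Matrix.SpecialLinearGroup.coe_mul, inv_mul_cancel,
        Matrix.SpecialLinearGroup.coe_one, transpose_one, one_mulVec]
    have hu : M *ᵥ (Sum.elim w₀ 0) ≠ 0 := fun h => elim_ne_zero hw₀ (by
      have := congrArg (fun z => ((g⁻¹ : SpecialLinearGroup (Fin m ⊕ Unit) F) :
        Matrix (Fin m ⊕ Unit) (Fin m ⊕ Unit) F) *ᵥ z) h
      simpa only [M, mulVec_mulVec, ← Matrix.SpecialLinearGroup.coe_mul, inv_mul_cancel,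
        Matrix.SpecialLinearGroup.coe_one, one_mulVec, mulVec_zero] using this)
    have h0 : f ⬝ᵥ (M *ᵥ Sum.elim w₀ 0) = 0 := by rw [dot_moved hfM]; exact eLast_dot w₀
    refine ⟨⟨(M *ᵥ Sum.elim w₀ 0, f), hu, fun h => eLast_ne_zero (hfM.symm.trans (by
      rw [show f = 0 from h, mulVec_zero])), h0⟩, ?_⟩
    show tv (M *ᵥ Sum.elim w₀ 0) f h0 = x
    rw [← hg, T, mul_tv (eLast_dot w₀) h0 rfl hfM, mul_inv_cancel_right]
  choose s hs using sec
  let Φ : C × Fˣ → S := fun p => ⟨((p.2 : F) • (s p.1).1.1, ((p.2 : F))⁻¹ • (s p.1).1.2),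
    smul_ne_zero p.2.ne_zero (s p.1).2.1, smul_ne_zero (inv_ne_zero p.2.ne_zero) (s p.1).2.2.1, by
      rw [dotProduct_smul, smul_dotProduct, (s p.1).2.2.2, smul_zero, smul_zero]⟩
  have hΦtv : ∀ p, tv (Φ p).1.1 (Φ p).1.2 (Φ p).2.2.2 = p.1.1 := fun p => by
    rw [← hs p.1]
    apply Subtype.ext
    show 1 + vecMulVec ((p.2 : F) • (s p.1).1.1) ((p.2 : F)⁻¹ • (s p.1).1.2) = _
    rw [smul_vecMulVec, vecMulVec_smul, smul_smul, mul_inv_cancel₀ p.2.ne_zero, one_smul]
    rfl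
  have hbij : Function.Bijective Φ := by
    refine ⟨?_, ?_⟩
    · rintro ⟨x, c⟩ ⟨y, d⟩ h
      obtain rfl : x = y := Subtype.ext (by
        have h1 := hΦtv (x, c)
        rw [← hΦtv (y, d)] at *
        rw [← h1]
        exact tv_congr _ _ (congrArg (fun p : S => p.1.1) h) (congrArg (fun p : S => p.1.2) h))
      have := congrArg (fun p : S => p.1.1) h
      simp only [Φ] at this
      exact Prod.ext rfl (Units.ext (smul_left_injective F (s x).2.1 this))
    · rintro ⟨⟨u, f⟩, hu, hf, hfu⟩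
      have hx : IsConj (T w₀) (tv u f hfu) := by
        obtain ⟨w, hw, hc⟩ := exists_conj_T (by omega) hfu hu hf
        exact (isConj_T hm hw₀ hw).trans hc.symm
      set x : C := ⟨tv u f hfu, hx⟩
      have e := congrArg (fun M : SpecialLinearGroup (Fin m ⊕ Unit) F =>
        (M : Matrix (Fin m ⊕ Unit) (Fin m ⊕ Unit) F)) (hs x)
      simp only [x, coe_tv, add_right_inj] at e
      set u' := (s x).1.1
      set f' := (s x).1.2
      have hf' : f' ≠ 0 := (s x).2.2.1
      have hu' : u' ≠ 0 := (s x).2.1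
      have eij : ∀ i j, u' i * f' j = u i * f j := fun i j => congrFun (congrFun e i) j
      obtain ⟨j, hj⟩ := Function.ne_iff.mp hf
      simp only [Pi.zero_apply] at hj
      have hj' : f' j ≠ 0 := fun h => by
        obtain ⟨i, hi⟩ := Function.ne_iff.mp hu
        have := eij i j
        rw [h, mul_zero] at this
        exact (mul_ne_zero hi hj) this.symm
      refine ⟨(x, Units.mk0 (f' j / f j) (div_ne_zero hj' hj)), Subtype.ext (Prod.ext ?_ ?_)⟩
      · funext i
        show f' j / f j * u' i = u i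
        rw [div_mul_eq_mul_div, mul_comm, eij, mul_div_assoc, div_self hj, mul_one]
      · funext l
        show (f' j / f j)⁻¹ * f' l = f l
        obtain ⟨i, hi⟩ := Function.ne_iff.mp hu'
        simp only [Pi.zero_apply] at hi
        have e1 := eij i j
        have e2 := eij i l
        rw [inv_div, div_mul_eq_mul_div, div_eq_iff hj']
        refine mul_left_cancel₀ hi ?_
        linear_combination f j * e2 - f l * e1
  rw [← card_flags, ← Nat.card_eq_of_bijective Φ hbij, Nat.card_prod,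
    Nat.card_eq_fintype_card (α := Fˣ), Fintype.card_units]

end CfsgLib.SLMinDeg
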