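import Cfsg.Agent.Lib.SLMinDeg.Main
import Cfsg.Agent.Lib.CharBound.SLWeilPerm

set_option autoImplicit false
set_option linter.unusedSectionVars false

/-! The permutation representation on points gives the extremal degree. -/

namespace CfsgLib.SLMinDeg

open Matrix
open scoped LinearAlgebra.Projectivization
open CfsgLib.SLWeilPerm

variable {F : Type*} [Field F] [Fintype F] [DecidableEq F] {n : ℕ}

theorem exists_weil (hn : 3 ≤ n) :
    ∃ ρ : Representation ℂ (Matrix.SpecialLinearGroup (Fin n) F) (Fin (weilDeg (Fintype.card F) n) → ℂ),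
      ρ.IsIrreducible := by
  classical
  have hn1 : 1 ≤ n := by omega
  set X : Matrix.SpecialLinearGroup (Fin n) F → ℂ := psi 1 - 1 with hX
  have h11 : Cfsg.classInner (1 : Matrix.SpecialLinearGroup (Fin n) F → ℂ) 1 = 1 := by
    simp [Cfsg.classInner, Nat.card_eq_fintype_card]
  have hnorm : Cfsg.classInner X X = 1 := by
    simp [hX, CfsgLib.Characters.classInner_sub_left, CfsgLib.Characters.classInner_sub_right,
      classInner_psi hn, classInner_psi_one hn, h11]
    rw [CfsgLib.Characters.classInner_conj_symm]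
    simp [classInner_psi_one hn]
  have hP : Nat.card (ℙ F (Fin n → F)) = weilDeg (Fintype.card F) n + 1 := by
    rw [Projectivization.card_of_finrank F (Fin n → F) (n := n) (by simp), Nat.card_eq_fintype_card,
      weilDeg, Finset.range_eq_Ico, Finset.sum_eq_sum_Ico_succ_bot (by omega), pow_zero, add_comm]
  have hdeg : psi 1 (1 : Matrix.SpecialLinearGroup (Fin n) F) = (Nat.card (ℙ F (Fin n → F)) : ℂ) := by
    simp only [psi, eigLines, Matrix.SpecialLinearGroup.coe_one, one_mulVec]
    rw [Finset.sum_eq_single (1 : Fˣ)]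
    · simp
    · intro a _ ha
      rw [Nat.card_eq_zero.2 (Or.inl ⟨fun x => ha (eq_of_smul_rep (a := 1) (b := a)
        (by rw [Units.val_one, one_smul]; exact x.2)).2.symm⟩)]
      simp
    · simp
  have hX1 : X 1 = (weilDeg (Fintype.card F) n : ℂ) := by
    rw [hX, Pi.sub_apply, hdeg, hP, Pi.one_apply]; push_cast; ring
  have hirr : Cfsg.IsIrrCharacter _ X := by
    refine CfsgLib.Characters.isIrrCharacter_of_generalized_norm_one ?_ hnorm ?_
    · exact CfsgLib.Characters.isGeneralizedCharacter_sub
          (CfsgLib.Characters.isGeneralizedCharacter_of_isCharacter (isCharacter_psi 1))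
          CfsgLib.Characters.isGeneralizedCharacter_one
    · rw [hX1, Complex.natCast_re]
      exact Nat.cast_nonneg _
  obtain ⟨d, ρ, hρ, hχ⟩ := hirr
  have hd : (d : ℂ) = (weilDeg (Fintype.card F) n : ℂ) := by
    rw [← hX1, ← hχ]; simp
  have hd' : d = weilDeg (Fintype.card F) n := by exact_mod_cast hd
  subst hd'
  exact ⟨ρ, hρ⟩

end CfsgLib.SLMinDeg
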