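import Cfsg.Agent.Lib.SLMinDeg.Rules

set_option autoImplicit false
set_option linter.unusedSectionVars false

/-! Transvections act trivially on the eigenspaces which they fix, outside the small exceptions. -/

namespace CfsgLib.SLMinDeg

open Matrix CfsgLib.KnownSimple.ModulePerm CfsgLib.KnownSimple.SLMinIndex

universe u v

variable {F : Type u} [Field F] [Fintype F] [DecidableEq F] {m : ℕ}
variable {V : Type v} [AddCommGroup V] [Module ℂ V] [FiniteDimensional ℂ V]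
variable {ρ : Representation ℂ (SpecialLinearGroup (Fin m ⊕ Unit) F) V}

theorem mu_ne_zero {ψ : Fin m → F} (htr : LinearMap.trace ℂ V (proj ρ T ψ) = 1)
    {s : SpecialLinearGroup (Fin m) F} (hs : ψ ᵥ* (s : Matrix (Fin m) (Fin m) F) = ψ) : mu ρ ψ s ≠ 0 := by
  intro h0
  have hs' : ψ ᵥ* ((s⁻¹ : SpecialLinearGroup (Fin m) F) : Matrix (Fin m) (Fin m) F) = ψ := by
    conv_lhs => rw [← hs]
    rw [vecMul_vecMul, ← Matrix.SpecialLinearGroup.coe_mul, mul_inv_cancel, Matrix.SpecialLinearGroup.coe_one,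
      vecMul_one]
  have := mu_mul ρ htr hs s⁻¹ hs'
  rw [mul_inv_cancel, mu_one, htr, h0, zero_mul] at this
  exact one_ne_zero this

/-- The commutator argument. -/
theorem mu_eq_one_of_commutator {ψ : Fin m → F} (htr : LinearMap.trace ℂ V (proj ρ T ψ) = 1) {a f b : Fin m → F}
    (h : f ⬝ᵥ a = 0) (hψa : ψ ⬝ᵥ a = 0) (hψb : ψ ⬝ᵥ b = 0) (hfb : f ⬝ᵥ b = 0)
    (hb : b ∉ Submodule.span F {a}) : mu ρ ψ (tv a f h) = 1 := by
  obtain ⟨g, hg, hgb⟩ := exists_dot hb
  have hga : g ⬝ᵥ a = 0 := hg a (Submodule.mem_span_singleton_self a)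
  have fix : ∀ (x k : Fin m → F) (hk : k ⬝ᵥ x = 0), ψ ⬝ᵥ x = 0 →
      ψ ᵥ* (tv x k hk : Matrix (Fin m) (Fin m) F) = ψ := fun x k hk hx => by
    rw [vecMul_tv, hx, zero_smul, add_zero]
  have fx := fix b f hfb hψb
  have fy := fix a g hga hψa
  have fz := fix a f h hψa
  have fxy : ψ ᵥ* ((tv b f hfb * tv a g hga : SpecialLinearGroup (Fin m) F) : Matrix (Fin m) (Fin m) F) = ψ := by
    rw [Matrix.SpecialLinearGroup.coe_mul, ← vecMul_vecMul, fx, fy]
  have key : tv a g hga * tv b f hfb = tv a f h * (tv b f hfb * tv a g hga) := by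
    apply Subtype.ext
    simp only [Matrix.SpecialLinearGroup.coe_mul, coe_tv, mul_add, add_mul, mul_one, one_mul,
      vecMulVec_mul_vecMulVec, h, hfb, hgb, zero_smul, one_smul, vecMulVec_zero, add_zero]
    abel
  have e := congrArg (mu ρ ψ) key
  rw [mu_mul ρ htr fy _ fx, mu_mul ρ htr fz _ fxy, mu_mul ρ htr fx _ fy, mul_comm (mu ρ ψ (tv b f hfb))] at e
  exact mul_right_cancel₀ (mul_ne_zero (mu_ne_zero htr fy) (mu_ne_zero htr fx)) (e.symm.trans (one_mul _).symm)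

theorem exists_outside {a ψ f : Fin m → F} (h : 4 ≤ m ∨ (3 ≤ m ∧ f ∈ Submodule.span F {ψ})) :
    ∃ b, ψ ⬝ᵥ b = 0 ∧ f ⬝ᵥ b = 0 ∧ b ∉ Submodule.span F {a} := by
  by_contra hcon
  push Not at hcon
  have hsp : Module.finrank F (Submodule.span F ({a} : Set (Fin m → F))) ≤ 1 := by
    have := finrank_span_le_card (R := F) ({a} : Set (Fin m → F))
    simpa using this
  rcases h with hm | ⟨hm, hf⟩
  · let L : (Fin m → F) →ₗ[F] (Fin 2 → F) :=
      LinearMap.pi ![dotProductBilin F F ψ, dotProductBilin F F f]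
    have hk : LinearMap.ker L ≤ Submodule.span F {a} := fun b hb => by
      have h0 := congrFun (LinearMap.mem_ker.mp hb) 0
      have h1 := congrFun (LinearMap.mem_ker.mp hb) 1
      exact hcon b h0 h1
    have h1 := LinearMap.finrank_range_add_finrank_ker L
    have h2 := (Submodule.finrank_le (LinearMap.range L))
    have h3 := Submodule.finrank_mono hk
    simp only [Module.finrank_fintype_fun_eq_card, Fintype.card_fin] at h1 h2
    omega
  · obtain ⟨c, rfl⟩ := Submodule.mem_span_singleton.mp hf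
    let L : (Fin m → F) →ₗ[F] F := dotProductBilin F F ψ
    have hk : LinearMap.ker L ≤ Submodule.span F {a} := fun b hb => by
      have h0 : ψ ⬝ᵥ b = 0 := LinearMap.mem_ker.mp hb
      exact hcon b h0 (by rw [smul_dotProduct, h0, smul_zero])
    have h1 := LinearMap.finrank_range_add_finrank_ker L
    have h2 := (Submodule.finrank_le (LinearMap.range L))
    have h3 := Submodule.finrank_mono hk
    simp only [Module.finrank_fintype_fun_eq_card, Fintype.card_fin, Module.finrank_self] at h1 h2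
    omega

/-- Scaling invariance makes the character trivial. -/
theorem mu_eq_one_of_scaling {ψ : Fin m → F} (htr : LinearMap.trace ℂ V (proj ρ T ψ) = 1) {a f : Fin m → F}
    (h : f ⬝ᵥ a = 0) (hψa : ψ ⬝ᵥ a = 0) {c : F} (hc : c ≠ 1)
    (inv : ∀ t : F, t ≠ 0 → mu ρ ψ (tv a ((c * t) • f) (by rw [smul_dotProduct, h, smul_zero])) =
      mu ρ ψ (tv a (t • f) (by rw [smul_dotProduct, h, smul_zero]))) : mu ρ ψ (tv a f h) = 1 := by
  set t := (c - 1)⁻¹ with ht
  have fix : ∀ s : F, ψ ᵥ* (tv a (s • f) (by rw [smul_dotProduct, h, smul_zero]) : Matrix (Fin m) (Fin m) F) = ψ :=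
    fun s => by rw [vecMul_tv, hψa, zero_smul, add_zero]
  have hprod : tv a f h * tv a (t • f) (by rw [smul_dotProduct, h, smul_zero]) =
      tv a ((c * t) • f) (by rw [smul_dotProduct, h, smul_zero]) := by
    apply Subtype.ext
    rw [Matrix.SpecialLinearGroup.coe_mul, coe_tv, coe_tv, coe_tv, mul_add, mul_one, add_mul, one_mul,
      vecMulVec_mul_vecMulVec, h, zero_smul, vecMulVec_zero, add_zero, add_assoc, ← vecMulVec_add,
      show f + t • f = (c * t) • f from by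
        conv_lhs => rw [← one_smul F f, smul_smul, ← add_smul]
        congr 1
        rw [ht]; field_simp [sub_ne_zero.mpr hc]; ring]
  have e := congrArg (mu ρ ψ) hprod
  rw [mu_mul ρ htr (by rw [vecMul_tv, hψa, zero_smul, add_zero]) _ (fix t),
    inv t (inv_ne_zero (sub_ne_zero.mpr hc))] at e
  exact mul_right_cancel₀ (mu_ne_zero htr (fix t)) (e.trans (one_mul _).symm)

/-! ### diagonal elements on two dual pairs -/

section Diag

variable {κ : Type*} [Fintype κ] [DecidableEq κ]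

/-- `u ↦ c u`, `v ↦ c⁻¹ v`, identity on the common kernel of `g` and `k`. -/
noncomputable def diagTwo (c : F) (hc : c ≠ 0) (u g v k : κ → F) (hgu : g ⬝ᵥ u = 1) (hkv : k ⬝ᵥ v = 1)
    (hku : k ⬝ᵥ u = 0) : SpecialLinearGroup κ F :=
  ⟨1 + (Matrix.of fun i j => (![(c - 1) • u, (c⁻¹ - 1) • v] : Fin 2 → κ → F) j i) *
      Matrix.of (![g, k] : Fin 2 → κ → F), by
    set A : Matrix κ (Fin 2) F := Matrix.of fun i j => (![(c - 1) • u, (c⁻¹ - 1) • v] : Fin 2 → κ → F) j i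
    set B : Matrix (Fin 2) κ F := Matrix.of (![g, k] : Fin 2 → κ → F)
    have e00 : (B * A) 0 0 = c - 1 := by
      show g ⬝ᵥ ((c - 1) • u) = _
      rw [dotProduct_smul, hgu, smul_eq_mul, mul_one]
    have e10 : (B * A) 1 0 = 0 := by
      show k ⬝ᵥ ((c - 1) • u) = _
      rw [dotProduct_smul, hku, smul_zero]
    have e11 : (B * A) 1 1 = c⁻¹ - 1 := by
      show k ⬝ᵥ ((c⁻¹ - 1) • v) = _
      rw [dotProduct_smul, hkv, smul_eq_mul, mul_one]
    rw [det_one_add_mul_comm, det_fin_two]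
    simp [Matrix.add_apply, e00, e10, e11, hc]⟩

theorem diagTwo_mulVec (c : F) (hc : c ≠ 0) (u g v k : κ → F) (hgu : g ⬝ᵥ u = 1) (hkv : k ⬝ᵥ v = 1)
    (hku : k ⬝ᵥ u = 0) (x : κ → F) :
    (diagTwo c hc u g v k hgu hkv hku : Matrix κ κ F) *ᵥ x =
      x + ((c - 1) * (g ⬝ᵥ x)) • u + ((c⁻¹ - 1) * (k ⬝ᵥ x)) • v := by
  show (1 + _) *ᵥ x = _
  rw [add_mulVec, one_mulVec, ← mulVec_mulVec, add_assoc]
  congr 1
  funext i
  simp [Matrix.mulVec, dotProduct, Fin.sum_univ_two]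
  ring

theorem diagTwo_vecMul (c : F) (hc : c ≠ 0) (u g v k : κ → F) (hgu : g ⬝ᵥ u = 1) (hkv : k ⬝ᵥ v = 1)
    (hku : k ⬝ᵥ u = 0) (x : κ → F) :
    x ᵥ* (diagTwo c hc u g v k hgu hkv hku : Matrix κ κ F) =
      x + ((c - 1) * (x ⬝ᵥ u)) • g + ((c⁻¹ - 1) * (x ⬝ᵥ v)) • k := by
  show x ᵥ* (1 + _) = _
  rw [vecMul_add, vecMul_one, ← vecMul_vecMul, add_assoc]
  congr 1
  funext i
  simp [Matrix.vecMul, dotProduct, Fin.sum_univ_two, Finset.mul_sum, mul_left_comm]

end Diag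

/-- The scaling argument inside `SL_m`. -/
theorem mu_eq_one_of_square {ψ : Fin m → F} (htr : LinearMap.trace ℂ V (proj ρ T ψ) = 1) {a f : Fin m → F}
    (h : f ⬝ᵥ a = 0) (ha : a ≠ 0) (hψa : ψ ⬝ᵥ a = 0) (hf : f ∉ Submodule.span F {ψ}) {c : F} (hc0 : c ≠ 0)
    (hc : c * c ≠ 1) : mu ρ ψ (tv a f h) = 1 := by
  refine mu_eq_one_of_scaling htr h hψa hc fun t ht => ?_
  set k := t • f with hk
  have hka : k ⬝ᵥ a = 0 := by rw [hk, smul_dotProduct, h, smul_zero]
  obtain ⟨b, hb, hkb⟩ := exists_dot (U := Submodule.span F {ψ}) (v := k) (fun hm => hf (by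
    have := Submodule.smul_mem _ t⁻¹ hm
    rwa [hk, smul_smul, inv_mul_cancel₀ ht, one_smul] at this))
  have hψb : ψ ⬝ᵥ b = 0 := by rw [dotProduct_comm]; exact hb ψ (Submodule.mem_span_singleton_self ψ)
  rw [dotProduct_comm] at hkb
  obtain ⟨g, hg, hga⟩ := exists_dot (U := Submodule.span F {b}) (v := a) (fun hm => by
    obtain ⟨s, hs⟩ := Submodule.mem_span_singleton.mp hm
    have : k ⬝ᵥ a = s := by rw [← hs, dotProduct_smul, hkb, smul_eq_mul, mul_one]
    rw [hka] at this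
    rw [← this, zero_smul] at hs
    exact ha hs.symm)
  set D := diagTwo c hc0 a g b k hga hkb hka with hD
  have hDψ : ψ ᵥ* (D : Matrix (Fin m) (Fin m) F) = ψ := by
    rw [hD, diagTwo_vecMul, hψa, hψb]; simp
  have hDa : (D : Matrix (Fin m) (Fin m) F) *ᵥ a = c • a := by
    rw [hD, diagTwo_mulVec, hga, hka]
    module
  have hDk : (D : Matrix (Fin m) (Fin m) F).transpose *ᵥ (c • k) = k := by
    rw [mulVec_transpose, hD, diagTwo_vecMul, smul_dotProduct c k, smul_dotProduct c k, hka, hkb]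
    simp only [smul_eq_mul, mul_zero, zero_smul, add_zero, mul_one, ← add_smul]
    rw [sub_mul, inv_mul_cancel₀ hc0, one_mul, add_sub_cancel, one_smul]
  have hca : (c • k) ⬝ᵥ (c • a) = 0 := by simp [smul_dotProduct, dotProduct_smul, hka]
  have hconj : D * tv a k hka = tv a ((c * c * t) • f) (by rw [smul_dotProduct, h, smul_zero]) * D := by
    rw [mul_tv hka hca hDa hDk]
    congr 1
    apply Subtype.ext
    rw [coe_tv, coe_tv, hk, smul_vecMulVec, vecMulVec_smul, vecMulVec_smul, vecMulVec_smul, smul_smul, smul_smul]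
  have fix : ∀ (s : Fin m → F) (hs : s ⬝ᵥ a = 0),
      ψ ᵥ* (tv a s hs : Matrix (Fin m) (Fin m) F) = ψ := fun s hs => by
    rw [vecMul_tv, hψa, zero_smul, add_zero]
  have e := congrArg (mu ρ ψ) hconj
  rw [mu_mul ρ htr hDψ _ (fix _ _), mu_mul ρ htr (fix _ _) _ hDψ, mul_comm] at e
  exact mul_right_cancel₀ (mu_ne_zero htr hDψ) e.symm

/-- The scaling argument for `SL_3`, using the full Levi subgroup. -/
theorem mu_eq_one_of_cube {ρ : Representation ℂ (SpecialLinearGroup (Fin 2 ⊕ Unit) F) V} {ψ : Fin 2 → F}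
    (htr : LinearMap.trace ℂ V (proj ρ T ψ) = 1) {a f : Fin 2 → F} (h : f ⬝ᵥ a = 0) (ha : a ≠ 0)
    (hf : f ≠ 0) (hψa : ψ ⬝ᵥ a = 0) {y : F} (hy : y ≠ 0) (hy3 : y ^ 3 ≠ 1) : mu ρ ψ (tv a f h) = 1 := by
  refine mu_eq_one_of_scaling htr h hψa (c := (y ^ 3)⁻¹) (fun hh => hy3 (inv_eq_one.mp hh)) fun t ht => ?_
  set k := t • f with hk
  have hka : k ⬝ᵥ a = 0 := by rw [hk, smul_dotProduct, h, smul_zero]
  have hk0 : k ≠ 0 := smul_ne_zero ht hf
  obtain ⟨e, -, hke⟩ := exists_dot (U := (⊥ : Submodule F (Fin 2 → F))) (v := k) (by simpa using hk0)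
  rw [dotProduct_comm] at hke
  obtain ⟨g, hg, hga⟩ := exists_dot (U := Submodule.span F {e}) (v := a) (fun hm => by
    obtain ⟨s, hs⟩ := Submodule.mem_span_singleton.mp hm
    have : k ⬝ᵥ a = s := by rw [← hs, dotProduct_smul, hke, smul_eq_mul, mul_one]
    rw [hka] at this
    rw [← this, zero_smul] at hs
    exact ha hs.symm)
  have hge : g ⬝ᵥ e = 0 := hg e (Submodule.mem_span_singleton_self e)
  have hψk : ∀ w : Fin 2 → F, ψ ⬝ᵥ w = (ψ ⬝ᵥ e) * (k ⬝ᵥ w) := by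
    intro w
    simp only [dotProduct, Fin.sum_univ_two] at hψa hka hke ⊢
    have hd : ψ 0 * k 1 = ψ 1 * k 0 := by
      rcases (Function.ne_iff.mp ha) with ⟨i, hi⟩
      fin_cases i
      · refine mul_right_cancel₀ (show a 0 ≠ 0 from hi) ?_
        linear_combination (k 1) * hψa - (ψ 1) * hka
      · refine mul_right_cancel₀ (show a 1 ≠ 0 from hi) ?_
        linear_combination (ψ 0) * hka - (k 0) * hψa
    linear_combination (w 1 * e 0 - w 0 * e 1) * (-hd) - (ψ 0 * w 0 + ψ 1 * w 1) * hke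
  set δ : Fin 2 ⊕ Unit → F := eLast with hδ
  set a' : Fin 2 ⊕ Unit → F := Sum.elim a 0 with ha'
  set e' : Fin 2 ⊕ Unit → F := Sum.elim e 0 with he'
  set g' : Fin 2 ⊕ Unit → F := Sum.elim g 0 with hg'
  set k' : Fin 2 ⊕ Unit → F := Sum.elim k 0 with hk'
  have d_ga : g' ⬝ᵥ a' = 1 := by simpa [hg', ha', dotProduct, Fintype.sum_sum_type] using hga
  have d_ge : g' ⬝ᵥ e' = 0 := by simpa [hg', he', dotProduct, Fintype.sum_sum_type] using hge
  have d_ke : k' ⬝ᵥ e' = 1 := by simpa [hk', he', dotProduct, Fintype.sum_sum_type] using hke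
  have d_ka : k' ⬝ᵥ a' = 0 := by simpa [hk', ha', dotProduct, Fintype.sum_sum_type] using hka
  have d_gd : g' ⬝ᵥ δ = 0 := by simp [hg', hδ, eLast, dotProduct, Fintype.sum_sum_type]
  have d_kd : k' ⬝ᵥ δ = 0 := by simp [hk', hδ, eLast, dotProduct, Fintype.sum_sum_type]
  have d_dd : δ ⬝ᵥ δ = 1 := by simp [hδ, eLast, dotProduct, Fintype.sum_sum_type]
  have d_da : δ ⬝ᵥ a' = 0 := by simp [ha', hδ, eLast, dotProduct, Fintype.sum_sum_type]
  have d_de : δ ⬝ᵥ e' = 0 := by simp [he', hδ, eLast, dotProduct, Fintype.sum_sum_type]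
  set D₁ := diagTwo y hy e' k' a' g' d_ke d_ga d_ge with hD₁
  set D₂ := diagTwo y hy δ δ a' g' d_dd d_ga d_gd with hD₂
  set H := D₁ * D₂ with hH
  have hHv : ∀ x, (H : Matrix (Fin 2 ⊕ Unit) (Fin 2 ⊕ Unit) F) *ᵥ x =
      x + ((y - 1) * (k' ⬝ᵥ x)) • e' + ((y - 1) * (δ ⬝ᵥ x)) • δ + (((y⁻¹) ^ 2 - 1) * (g' ⬝ᵥ x)) • a' := fun x => by
    rw [hH, Matrix.SpecialLinearGroup.coe_mul, ← mulVec_mulVec]
    simp only [hD₁, hD₂, diagTwo_mulVec]
    simp only [dotProduct_add, dotProduct_smul, d_ga, d_gd, d_ka, d_kd, smul_eq_mul, mul_zero, mul_one, add_zero]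
    module
  have hHt : ∀ x, (H : Matrix (Fin 2 ⊕ Unit) (Fin 2 ⊕ Unit) F).transpose *ᵥ x =
      x + ((y - 1) * (x ⬝ᵥ e')) • k' + ((y - 1) * (x ⬝ᵥ δ)) • δ + (((y⁻¹) ^ 2 - 1) * (x ⬝ᵥ a')) • g' := fun x => by
    rw [mulVec_transpose, hH, Matrix.SpecialLinearGroup.coe_mul, ← vecMul_vecMul]
    simp only [hD₁, hD₂, diagTwo_vecMul]
    simp only [add_dotProduct, smul_dotProduct, d_ga, d_gd, d_ka, d_kd, smul_eq_mul, mul_zero, mul_one, add_zero]
    module
  have hHδ : (H : Matrix (Fin 2 ⊕ Unit) (Fin 2 ⊕ Unit) F).transpose *ᵥ (y⁻¹ • δ) = δ := by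
    rw [hHt, smul_dotProduct, smul_dotProduct, smul_dotProduct, d_de, d_dd, d_da]
    simp only [smul_eq_mul, mul_zero, zero_smul, add_zero, mul_one, ← add_smul]
    rw [sub_mul, mul_inv_cancel₀ hy, one_mul, add_sub_cancel, one_smul]
  let A : (Fin 2 → F) → (Fin 2 → F) := fun w i =>
    y⁻¹ * ((H : Matrix (Fin 2 ⊕ Unit) (Fin 2 ⊕ Unit) F) *ᵥ Sum.elim w 0) (Sum.inl i)
  have hHT : ∀ w, H * T w = T (A w) * H := by
    intro w
    have h0 : (y⁻¹ • δ) ⬝ᵥ ((H : Matrix (Fin 2 ⊕ Unit) (Fin 2 ⊕ Unit) F) *ᵥ Sum.elim w 0) = 0 := by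
      rw [dot_moved hHδ]; exact eLast_dot w
    have h0' : (eLast : Fin 2 ⊕ Unit → F) ⬝ᵥ ((H : Matrix (Fin 2 ⊕ Unit) (Fin 2 ⊕ Unit) F) *ᵥ Sum.elim w 0) = 0 := by
      rw [smul_dotProduct, smul_eq_mul] at h0
      exact (mul_eq_zero.mp h0).resolve_left (inv_ne_zero hy)
    conv_lhs => rw [show T w = tv (Sum.elim w 0) eLast (eLast_dot w) from rfl, mul_tv (eLast_dot w) h0 rfl hHδ]
    congr 1
    apply Subtype.ext
    rw [T, coe_tv, coe_tv, vecMulVec_smul, ← smul_vecMulVec]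
    congr 2
    conv_lhs => rw [exists_eq_elim h0']
    funext x; rcases x with i | i <;> simp [A]
  have hAbij : Function.Bijective A := Finite.injective_iff_bijective.mp fun v w hvw => by
    have h1 : H * T v = H * T w := by rw [hHT, hHT, hvw]
    have h2' : T v = (T w : SpecialLinearGroup (Fin 2 ⊕ Unit) F) := mul_left_cancel h1
    have h2 := congrArg (fun M : SpecialLinearGroup (Fin 2 ⊕ Unit) F => (M : Matrix (Fin 2 ⊕ Unit) (Fin 2 ⊕ Unit) F)) h2'
    simp only [coe_T] at h2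
    exact funext fun i => by simpa using congrFun (congrFun h2 (Sum.inl i)) (Sum.inr ())
  have hAψ : ∀ w, ψ ⬝ᵥ A w = ψ ⬝ᵥ w := by
    intro w
    have : A w = y⁻¹ • (w + ((y - 1) * (k ⬝ᵥ w)) • e + (((y⁻¹) ^ 2 - 1) * (g ⬝ᵥ w)) • a) := by
      funext i
      simp only [A, hHv]
      simp [hk', hg', hδ, he', ha', eLast, dotProduct, Fintype.sum_sum_type]
    rw [this, dotProduct_smul, dotProduct_add, dotProduct_add, dotProduct_smul, dotProduct_smul, hψa]
    simp only [smul_eq_mul, mul_zero, add_zero]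
    have hw := hψk w
    field_simp
    linear_combination -(y - 1) * hw
  have hcom : Commute (ρ H) (proj ρ T ψ) :=
    rho_mul_proj_of_normalizes ρ H (Equiv.ofBijective A hAbij) hHT ψ ψ hAψ
  have hconj : H * emb (tv a k hka) =
      emb (tv a (((y ^ 3)⁻¹ * t) • f) (by rw [smul_dotProduct, h, smul_zero])) * H := by
    rw [emb_tv, emb_tv]
    have hu : (H : Matrix (Fin 2 ⊕ Unit) (Fin 2 ⊕ Unit) F) *ᵥ a' = (y⁻¹) ^ 2 • a' := by
      rw [hHv, d_ka, d_da, d_ga]
      module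
    have hk1 : (H : Matrix (Fin 2 ⊕ Unit) (Fin 2 ⊕ Unit) F).transpose *ᵥ (y⁻¹ • k') = k' := by
      rw [hHt, smul_dotProduct, smul_dotProduct, smul_dotProduct, d_ke, d_kd, d_ka]
      simp only [smul_eq_mul, mul_zero, zero_smul, add_zero, mul_one, ← add_smul]
      rw [sub_mul, mul_inv_cancel₀ hy, one_mul, add_sub_cancel, one_smul]
    rw [mul_tv _ (by simp [smul_dotProduct, dotProduct_smul, d_ka]) hu hk1]
    congr 1
    apply Subtype.ext
    rw [coe_tv, coe_tv, smul_vecMulVec, vecMulVec_smul, smul_smul, hk']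
    have : (Sum.elim (((y ^ 3)⁻¹ * t) • f) 0 : Fin 2 ⊕ Unit → F) = (y ^ 3)⁻¹ • Sum.elim k 0 := by
      funext x; rcases x with i | i <;> simp [hk, mul_assoc]
    rw [this, vecMulVec_smul, ha', ← inv_pow, show y⁻¹ ^ 2 * y⁻¹ = y⁻¹ ^ 3 by ring]
  have h3 : ρ (emb (tv a (((y ^ 3)⁻¹ * t) • f) (by rw [smul_dotProduct, h, smul_zero]))) =
      ρ H * ρ (emb (tv a k hka)) * ρ H⁻¹ := by
    rw [← map_mul, ← map_mul, hconj, mul_inv_cancel_right]
  show LinearMap.trace ℂ V (ρ (emb (tv a (((y ^ 3)⁻¹ * t) • f) _)) * proj ρ T ψ) = _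
  rw [h3, mul_assoc, mul_assoc, LinearMap.trace_mul_comm, mul_assoc, mul_assoc (ρ H⁻¹), ← hcom.eq,
    ← mul_assoc (ρ H⁻¹), ← map_mul, inv_mul_cancel, map_one, one_mul]
  rfl

theorem exists_cube_ne (h2 : Fintype.card F ≠ 2) (h4 : Fintype.card F ≠ 4) : ∃ y : F, y ≠ 0 ∧ y ^ 3 ≠ 1 := by
  by_contra hcon
  push Not at hcon
  open Polynomial in
  have h5 : (Finset.univ : Finset F).card ≤ (X * (X ^ 3 - 1) : F[X]).natDegree := by
    refine Polynomial.card_le_degree_of_subset_roots (p := X * (X ^ 3 - 1)) fun y _ => ?_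
    have hne : (X * (X ^ 3 - 1) : F[X]) ≠ 0 :=
      mul_ne_zero X_ne_zero ((monic_X_pow_sub_C (1 : F) (by norm_num : (3 : ℕ) ≠ 0)).ne_zero)
    rw [mem_roots hne, IsRoot, eval_mul, eval_X, eval_sub, eval_pow, eval_X, eval_one]
    rcases eq_or_ne y 0 with h | h
    · rw [h, zero_mul]
    · rw [hcon y h, sub_self, mul_zero]
  open Polynomial in
  have hd : (X * (X ^ 3 - 1) : F[X]).natDegree ≤ 4 := by compute_degree
  rw [Finset.card_univ] at h5
  have h1 : 1 < Fintype.card F := Fintype.one_lt_card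
  have h3 : Fintype.card F = 3 := by omega
  have hall : ∀ y : F, y = 0 ∨ y = 1 := fun y => by
    rcases eq_or_ne y 0 with h | h
    · exact Or.inl h
    · have := FiniteField.pow_card_sub_one_eq_one y h
      rw [h3] at this
      refine Or.inr ?_
      calc y = y * y ^ 2 := by rw [show 2 = 3 - 1 by rfl, this, mul_one]
        _ = 1 := by rw [← pow_succ']; exact hcon y h
  have h6 : (Finset.univ : Finset F) ⊆ {0, 1} := fun y _ => by simpa using hall y
  have h7 := Finset.card_le_card h6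
  rw [Finset.card_univ] at h7
  have := Finset.card_le_two (a := (0 : F)) (b := 1)
  omega

theorem exists_square_ne (h4 : 4 ≤ Fintype.card F) : ∃ c : F, c ≠ 0 ∧ c * c ≠ 1 := by
  by_contra hcon
  push Not at hcon
  have h1 : (Finset.univ : Finset F) ⊆ {0, 1, -1} := fun c _ => by
    rcases eq_or_ne c 0 with h | h
    · simp [h]
    · rcases mul_self_eq_one_iff.mp (hcon c h) with h' | h' <;> simp [h']
  have h2 := Finset.card_le_card h1
  rw [Finset.card_univ] at h2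
  have := Finset.card_le_three (a := (0 : F)) (b := 1) (c := -1)
  omega

theorem muOne (hm : 2 ≤ m) (h1 : RuleOne ρ)
    (hex : (m, Fintype.card F) ≠ (2, 2) ∧ (m, Fintype.card F) ≠ (2, 4) ∧ (m, Fintype.card F) ≠ (3, 2) ∧
      (m, Fintype.card F) ≠ (3, 3)) : MuOne ρ := by
  intro ψ a f h hψ ha hf hψa
  have htr := trace_proj_ne h1 hψ
  by_cases hA : 4 ≤ m ∨ (3 ≤ m ∧ f ∈ Submodule.span F {ψ})
  · obtain ⟨b, hb1, hb2, hb3⟩ := exists_outside (a := a) hA
    exact mu_eq_one_of_commutator htr h hψa hb1 hb2 hb3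
  rcases (show m = 2 ∨ m = 3 ∨ 4 ≤ m by omega) with rfl | rfl | hm4
  · obtain ⟨y, hy, hy3⟩ := exists_cube_ne (F := F) (fun h0 => hex.1 (by rw [h0])) (fun h0 => hex.2.1 (by rw [h0]))
    exact mu_eq_one_of_cube htr h ha hf hψa hy hy3
  · have h4 : 4 ≤ Fintype.card F := by
      have h2 : 1 < Fintype.card F := Fintype.one_lt_card
      have h5 : Fintype.card F ≠ 2 := fun h0 => hex.2.2.1 (by rw [h0])
      have h6 : Fintype.card F ≠ 3 := fun h0 => hex.2.2.2 (by rw [h0])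
      omega
    obtain ⟨c, hc0, hc⟩ := exists_square_ne h4
    exact mu_eq_one_of_square htr h ha hψa (fun hm' => hA (Or.inr ⟨le_rfl, hm'⟩)) hc0 hc
  · exact absurd (Or.inl hm4) hA

end CfsgLib.SLMinDeg
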