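import Cfsg.Agent.Lib.SLMinDeg.Block
import Mathlib.LinearAlgebra.PID

set_option autoImplicit false
set_option linter.unusedSectionVars false

/-!
The restriction of a representation of `SL_(m+1)` to the point parabolic.
-/

namespace CfsgLib.SLMinDeg

open Matrix CfsgLib.KnownSimple.ModulePerm CfsgLib.KnownSimple.SLMinIndex

variable {F : Type*} [Field F] [Fintype F] [DecidableEq F] {m : ℕ}
variable {V : Type*} [AddCommGroup V] [Module ℂ V] [FiniteDimensional ℂ V]

/-- The value of every transvection, in a representation of smallest possible shape. -/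
def RuleOne {ι : Type*} [Fintype ι] [DecidableEq ι] (ρ : Representation ℂ (SpecialLinearGroup ι F) V) : Prop :=
  ∀ (u f : ι → F) (h : f ⬝ᵥ u = 0), u ≠ 0 → f ≠ 0 →
    ρ.character (tv u f h) = (Module.finrank ℂ V : ℂ) - (Fintype.card F : ℂ) ^ (Fintype.card ι - 1)

/-- The value of a product of two independent transvections. -/
def RuleTwo {ι : Type*} [Fintype ι] [DecidableEq ι] (ρ : Representation ℂ (SpecialLinearGroup ι F) V) : Prop :=
  ∀ (u f v g : ι → F) (h₁ : f ⬝ᵥ u = 0) (h₂ : g ⬝ᵥ v = 0), g ⬝ᵥ u = 0 → LinearIndependent F ![u, v] →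
    LinearIndependent F ![f, g] →
    ρ.character (tv u f h₁ * tv v g h₂) = (Module.finrank ℂ V : ℂ) -
      (Fintype.card F : ℂ) ^ (Fintype.card ι - 1) - (Fintype.card F : ℂ) ^ (Fintype.card ι - 2)

/-! ### sums of characters over the annihilator -/

theorem sum_perp_chi (a w : Fin m → F) :
    (Fintype.card F : ℂ) * ∑ ψ : Fin m → F, (if ψ ⬝ᵥ a = 0 then chi F (ψ ⬝ᵥ w) else 0) =
      ∑ c : F, if c • a + w = 0 then (Fintype.card F : ℂ) ^ m else 0 := by
  have h1 : ∀ t : F, ∑ c : F, chi F (c * t) = if t = 0 then (Fintype.card F : ℂ) else 0 := fun t => by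
    split_ifs with ht
    · subst ht; simp
    · have h := sum_chi (κ := Fin 1) (F := F) (fun _ => t)
      rw [if_neg (fun h0 => ht (congrFun h0 0))] at h
      rw [← h]
      refine Fintype.sum_equiv (Equiv.funUnique (Fin 1) F).symm _ _ fun c => ?_
      simp [dotProduct, mul_comm]
  calc _ = ∑ ψ : Fin m → F, chi F (ψ ⬝ᵥ w) * ∑ c : F, chi F (c * (ψ ⬝ᵥ a)) := by
        rw [Finset.mul_sum]
        refine Finset.sum_congr rfl fun ψ _ => ?_
        rw [h1]
        split_ifs <;> ring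
    _ = ∑ c : F, ∑ ψ : Fin m → F, chi F (ψ ⬝ᵥ (c • a + w)) := by
        rw [Finset.sum_comm]
        refine Finset.sum_congr rfl fun ψ _ => ?_
        rw [Finset.mul_sum]
        refine Finset.sum_congr rfl fun c _ => ?_
        rw [dotProduct_add, dotProduct_smul, smul_eq_mul, AddChar.map_add_eq_mul, mul_comm]
    _ = _ := by
        refine Finset.sum_congr rfl fun c _ => ?_
        rw [sum_chi_left, Fintype.card_fin]

theorem sum_perp_chi_of_indep (a w : Fin m → F) (h : ∀ c : F, c • a + w ≠ 0) :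
    ∑ ψ : Fin m → F, (if ψ ⬝ᵥ a = 0 then chi F (ψ ⬝ᵥ w) else 0) = 0 := by
  refine (mul_right_inj' (Nat.cast_ne_zero.mpr (Fintype.card_ne_zero (α := F)))).mp ?_
  rw [sum_perp_chi, mul_zero]
  exact Finset.sum_eq_zero fun c _ => if_neg (h c)

theorem sum_perp_chi_smul (a : Fin m → F) (ha : a ≠ 0) (t : F) :
    ∑ ψ : Fin m → F, (if ψ ⬝ᵥ a = 0 then chi F (ψ ⬝ᵥ (t • a)) else 0) = (Fintype.card F : ℂ) ^ (m - 1) := by
  have hm : 1 ≤ m := by
    rcases Nat.eq_zero_or_pos m with rfl | h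
    · exact absurd (Subsingleton.elim a 0) ha
    · exact h
  refine (mul_right_inj' (Nat.cast_ne_zero.mpr (Fintype.card_ne_zero (α := F)))).mp ?_
  rw [sum_perp_chi, Finset.sum_eq_single (-t), if_pos (by module), ← pow_succ']
  · congr 1; omega
  · intro c _ hc
    rw [if_neg]
    intro h
    rw [← add_smul] at h
    exact hc (eq_neg_of_add_eq_zero_left ((smul_eq_zero.mp h).resolve_right ha))
  · simp

theorem card_perp (a : Fin m → F) (ha : a ≠ 0) :
    ∑ ψ : Fin m → F, (if ψ ⬝ᵥ a = 0 then (1 : ℂ) else 0) = (Fintype.card F : ℂ) ^ (m - 1) := by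
  rw [← sum_perp_chi_smul a ha 0]
  exact Finset.sum_congr rfl fun ψ _ => by simp

theorem card_perp_two (a b : Fin m → F) (h : LinearIndependent F ![a, b]) :
    ∑ ψ : Fin m → F, (if ψ ⬝ᵥ a = 0 ∧ ψ ⬝ᵥ b = 0 then (1 : ℂ) else 0) = (Fintype.card F : ℂ) ^ (m - 2) := by
  have ha : a ≠ 0 := by simpa using h.ne_zero 0
  have hm : 2 ≤ m := by
    have := h.fintype_card_le_finrank
    simpa [Module.finrank_pi] using this
  have hb : ∀ c : F, c • a + b ≠ 0 := fun c hc =>
    one_ne_zero (LinearIndependent.pair_iff.mp h c 1 (by rwa [one_smul])).2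
  have h1 : ∀ t : F, ∑ c : F, chi F (c * t) = if t = 0 then (Fintype.card F : ℂ) else 0 := fun t => by
    split_ifs with ht
    · subst ht; simp
    · have h' := sum_chi (κ := Fin 1) (F := F) (fun _ => t)
      rw [if_neg (fun h0 => ht (congrFun h0 0))] at h'
      rw [← h']
      refine Fintype.sum_equiv (Equiv.funUnique (Fin 1) F).symm _ _ fun c => ?_
      simp [dotProduct, mul_comm]
  refine (mul_right_inj' (Nat.cast_ne_zero.mpr (Fintype.card_ne_zero (α := F)))).mp ?_
  calc _ = ∑ c : F, ∑ ψ : Fin m → F, (if ψ ⬝ᵥ a = 0 then chi F (ψ ⬝ᵥ (c • b)) else 0) := by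
        rw [Finset.sum_comm, Finset.mul_sum]
        refine Finset.sum_congr rfl fun ψ _ => ?_
        by_cases h0 : ψ ⬝ᵥ a = 0
        · simp only [h0, true_and, if_true, dotProduct_smul, smul_eq_mul, h1]
          split_ifs <;> ring
        · simp [h0]
    _ = _ := by
        rw [Finset.sum_eq_single (0 : F)]
        · rw [show (0 : F) • b = (0 : F) • a by simp, sum_perp_chi_smul a ha, ← pow_succ']
          congr 1; omega
        · intro c _ hc
          refine sum_perp_chi_of_indep a _ fun d hd => hc ?_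
          exact (LinearIndependent.pair_iff.mp h d c hd).2
        · simp

/-! ### the eigenspaces under the Levi subgroup -/

variable (ρ : Representation ℂ (SpecialLinearGroup (Fin m ⊕ Unit) F) V)

/-- the trace of `l` on the `ψ`-eigenspace -/
noncomputable def mu (ψ : Fin m → F) (l : SpecialLinearGroup (Fin m) F) : ℂ :=
  LinearMap.trace ℂ V (ρ (emb l) * proj ρ T ψ)

theorem emb_mul_proj (l : SpecialLinearGroup (Fin m) F) (ψ : Fin m → F) :
    ρ (emb l) * proj ρ T (ψ ᵥ* (l : Matrix (Fin m) (Fin m) F)) = proj ρ T ψ * ρ (emb l) := by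
  let A : (Fin m → F) ≃ (Fin m → F) :=
    { toFun := fun w => (l : Matrix (Fin m) (Fin m) F) *ᵥ w
      invFun := fun w => ((l⁻¹ : SpecialLinearGroup (Fin m) F) : Matrix (Fin m) (Fin m) F) *ᵥ w
      left_inv := fun w => by
        simp only [mulVec_mulVec, ← Matrix.SpecialLinearGroup.coe_mul, inv_mul_cancel,
          Matrix.SpecialLinearGroup.coe_one, one_mulVec]
      right_inv := fun w => by
        simp only [mulVec_mulVec, ← Matrix.SpecialLinearGroup.coe_mul, mul_inv_cancel,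
          Matrix.SpecialLinearGroup.coe_one, one_mulVec] }
  exact rho_mul_proj_of_normalizes ρ (emb l) A (fun w => emb_mul_T l w) ψ _ (fun w => by
    show ψ ⬝ᵥ ((l : Matrix (Fin m) (Fin m) F) *ᵥ w) = _
    exact dotProduct_mulVec _ _ _)

theorem commute_proj {l : SpecialLinearGroup (Fin m) F} {ψ : Fin m → F}
    (h : ψ ᵥ* (l : Matrix (Fin m) (Fin m) F) = ψ) : Commute (ρ (emb l)) (proj ρ T ψ) := by
  have := emb_mul_proj ρ l ψ
  rwa [h] at this

theorem mu_eq_zero {l : SpecialLinearGroup (Fin m) F} {ψ : Fin m → F}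
    (h : ψ ᵥ* (l : Matrix (Fin m) (Fin m) F) ≠ ψ) : mu ρ ψ l = 0 := by
  have hE := proj_mul_proj ρ (T := T) T_add
  have e : proj ρ T ψ * proj ρ T ψ = proj ρ T ψ := by rw [hE, if_pos rfl]
  rw [mu, ← e, ← mul_assoc, LinearMap.trace_mul_comm, ← mul_assoc, ← emb_mul_proj, mul_assoc, hE, if_neg h,
    mul_zero, map_zero]

theorem mu_one (ψ : Fin m → F) : mu ρ ψ 1 = LinearMap.trace ℂ V (proj ρ T ψ) := by
  rw [mu, map_one, map_one, one_mul]

theorem mu_mul {s : SpecialLinearGroup (Fin m) F} {ψ : Fin m → F} (htr : LinearMap.trace ℂ V (proj ρ T ψ) = 1)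
    (hs : ψ ᵥ* (s : Matrix (Fin m) (Fin m) F) = ψ) (t : SpecialLinearGroup (Fin m) F)
    (ht : ψ ᵥ* (t : Matrix (Fin m) (Fin m) F) = ψ) : mu ρ ψ (s * t) = mu ρ ψ s * mu ρ ψ t := by
  have hE : proj ρ T ψ * proj ρ T ψ = proj ρ T ψ := by rw [proj_mul_proj ρ T_add, if_pos rfl]
  have h1 := mul_eq_trace_smul _ _ hE htr (commute_proj ρ hs)
  have h2 := mul_eq_trace_smul _ _ hE htr (commute_proj ρ ht)
  rw [mu, map_mul emb, map_mul ρ, mul_assoc, h2, mul_smul_comm, map_smul, smul_eq_mul, mul_comm]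
  rfl

theorem char_parab (l : SpecialLinearGroup (Fin m) F) (w : Fin m → F) :
    ρ.character (emb l * T w) = ∑ ψ : Fin m → F, chi F (ψ ⬝ᵥ w) * mu ρ ψ l := by
  rw [Representation.character, map_mul, rho_eq_sum ρ T_add w, Finset.mul_sum, map_sum]
  exact Finset.sum_congr rfl fun ψ _ => by rw [mul_smul_comm, map_smul, smul_eq_mul, mu]

theorem vecMul_tv (ψ a f : Fin m → F) (h : f ⬝ᵥ a = 0) :
    ψ ᵥ* (tv a f h : Matrix (Fin m) (Fin m) F) = ψ + (ψ ⬝ᵥ a) • f := by
  rw [coe_tv, vecMul_add, vecMul_one, vecMul_vecMulVec]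

theorem fixed_tv_iff (ψ a f : Fin m → F) (h : f ⬝ᵥ a = 0) (hf : f ≠ 0) :
    ψ ᵥ* (tv a f h : Matrix (Fin m) (Fin m) F) = ψ ↔ ψ ⬝ᵥ a = 0 := by
  rw [vecMul_tv, add_eq_left, smul_eq_zero]
  exact or_iff_left hf

/-! ### consequences of the first rule -/

section One

variable {ρ}
variable (h1 : RuleOne ρ)

include h1

theorem char_T {w : Fin m → F} (hw : w ≠ 0) :
    ρ.character (T w) = (Module.finrank ℂ V : ℂ) - (Fintype.card F : ℂ) ^ m := by
  have := h1 _ _ (eLast_dot w) (elim_ne_zero hw) eLast_ne_zero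
  rw [Fintype.card_sum, Fintype.card_fin, Fintype.card_unit, Nat.add_sub_cancel] at this
  exact this

theorem trace_proj_ne {ψ : Fin m → F} (hψ : ψ ≠ 0) : LinearMap.trace ℂ V (proj ρ T ψ) = 1 := by
  rw [trace_proj ρ T_zero (fun w hw => char_T h1 hw), if_neg hψ, sub_sub_cancel, add_zero, Fintype.card_fin,
    inv_mul_cancel₀ (by simp)]

theorem trace_proj_zero :
    LinearMap.trace ℂ V (proj ρ T 0) = (Module.finrank ℂ V : ℂ) - (Fintype.card F : ℂ) ^ m + 1 := by
  have hq : (Fintype.card F : ℂ) ^ m ≠ 0 := by simp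
  rw [trace_proj ρ T_zero (fun w hw => char_T h1 hw), if_pos rfl, Fintype.card_fin]
  field_simp
  ring

/-- The value on a transvection of the Levi subgroup, with an arbitrary root element. -/
theorem char_tv_parab (a f : Fin m → F) (h : f ⬝ᵥ a = 0) (hf : f ≠ 0) (w : Fin m → F) :
    ρ.character (emb (tv a f h) * T w) = mu ρ 0 (tv a f h) +
      ∑ ψ : Fin m → F, (if ψ ⬝ᵥ a = 0 ∧ ψ ≠ 0 then chi F (ψ ⬝ᵥ w) * mu ρ ψ (tv a f h) else 0) := by
  rw [char_parab, ← Finset.add_sum_erase Finset.univ _ (Finset.mem_univ (0 : Fin m → F)), zero_dotProduct,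
    AddChar.map_zero_eq_one, one_mul]
  congr 1
  rw [← Finset.sum_erase (s := Finset.univ) (a := (0 : Fin m → F)) (f := fun ψ =>
    if ψ ⬝ᵥ a = 0 ∧ ψ ≠ 0 then chi F (ψ ⬝ᵥ w) * mu ρ ψ (tv a f h) else 0) (by simp)]
  refine Finset.sum_congr rfl fun ψ hψ => ?_
  by_cases h0 : ψ ⬝ᵥ a = 0
  · rw [if_pos ⟨h0, Finset.ne_of_mem_erase hψ⟩]
  · rw [if_neg (fun h' => h0 h'.1), mu_eq_zero ρ (fun h' => h0 ((fixed_tv_iff ψ a f h hf).mp h')), mul_zero]

theorem char_emb_tv (a f : Fin m → F) (h : f ⬝ᵥ a = 0) (ha : a ≠ 0) (hf : f ≠ 0) :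
    ρ.character (emb (tv a f h)) = (Module.finrank ℂ V : ℂ) - (Fintype.card F : ℂ) ^ m := by
  rw [emb_tv]
  have := h1 (Sum.elim a 0) (Sum.elim f 0) (by simpa [dotProduct, Fintype.sum_sum_type] using h)
    (elim_ne_zero ha) (elim_ne_zero hf)
  rw [Fintype.card_sum, Fintype.card_fin, Fintype.card_unit, Nat.add_sub_cancel] at this
  exact this

end One

/-! ### the representation on the fixed space of `T` -/

/-- The fixed space of `T` as a representation of `SL_m`. -/
noncomputable def fixedRep : Representation ℂ (SpecialLinearGroup (Fin m) F) (LinearMap.range (proj ρ T 0)) where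
  toFun l := (ρ (emb l)).restrict (fun x ⟨y, hy⟩ => ⟨ρ (emb l) y, by
    have h := commute_proj ρ (l := l) (ψ := 0) (zero_vecMul _)
    rw [← hy, ← Module.End.mul_apply, ← h.eq]; rfl⟩)
  map_one' := LinearMap.ext fun x => Subtype.ext (by simp)
  map_mul' s t := LinearMap.ext fun x => Subtype.ext (by simp)

theorem character_fixedRep (l : SpecialLinearGroup (Fin m) F) :
    (fixedRep ρ).character l = mu ρ 0 l := by
  have hE : proj ρ T 0 * proj ρ T 0 = proj ρ T (0 : Fin m → F) := by rw [proj_mul_proj ρ T_add, if_pos rfl]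
  have h := commute_proj ρ (l := l) (ψ := 0) (zero_vecMul _)
  have hmem : ∀ x, (ρ (emb l) * proj ρ T 0) x ∈ LinearMap.range (proj ρ T 0) := fun x => by
    rw [h.eq]; exact ⟨ρ (emb l) x, rfl⟩
  rw [mu, ← LinearMap.trace_restrict_eq_of_forall_mem _ _ hmem]
  refine congrArg _ (LinearMap.ext fun x => Subtype.ext ?_)
  obtain ⟨y, hy⟩ := x.2
  show ρ (emb l) x.1 = ρ (emb l) (proj ρ T 0 x.1)
  rw [← hy, ← Module.End.mul_apply (proj ρ T 0), hE]

theorem finrank_fixedRep :
    (Module.finrank ℂ (LinearMap.range (proj ρ T (0 : Fin m → F))) : ℂ) =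
      LinearMap.trace ℂ V (proj ρ T (0 : Fin m → F)) :=
  (trace_eq_finrank_range _ (by rw [proj_mul_proj ρ T_add, if_pos rfl])).symm

end CfsgLib.SLMinDeg
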