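import Cfsg.Agent.Lib.SLMinDeg.Parabolic

set_option autoImplicit false
set_option linter.unusedSectionVars false

/-! The two rules descend to the fixed space; the resulting degree bound. -/

namespace CfsgLib.SLMinDeg

open Matrix CfsgLib.KnownSimple.ModulePerm CfsgLib.KnownSimple.SLMinIndex

universe u v

variable {F : Type u} [Field F] [Fintype F] [DecidableEq F] {m : ℕ}
variable {V : Type v} [AddCommGroup V] [Module ℂ V] [FiniteDimensional ℂ V]

/-- Transvections act trivially on the one dimensional eigenspaces which they fix. -/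
def MuOne (ρ : Representation ℂ (SpecialLinearGroup (Fin m ⊕ Unit) F) V) : Prop :=
  ∀ (ψ a f : Fin m → F) (h : f ⬝ᵥ a = 0), ψ ≠ 0 → a ≠ 0 → f ≠ 0 → ψ ⬝ᵥ a = 0 → mu ρ ψ (tv a f h) = 1

variable {ρ : Representation ℂ (SpecialLinearGroup (Fin m ⊕ Unit) F) V}

theorem sum_ne_zero_split (a : Fin m → F) (g : (Fin m → F) → ℂ) :
    ∑ ψ : Fin m → F, (if ψ ⬝ᵥ a = 0 ∧ ψ ≠ 0 then g ψ else 0) =
      (∑ ψ : Fin m → F, if ψ ⬝ᵥ a = 0 then g ψ else 0) - g 0 := by
  have : ∀ ψ : Fin m → F, (if ψ ⬝ᵥ a = 0 ∧ ψ ≠ 0 then g ψ else 0) =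
      (if ψ ⬝ᵥ a = 0 then g ψ else 0) - (if ψ = 0 then g 0 else 0) := fun ψ => by
    by_cases h0 : ψ = 0
    · subst h0; simp
    · simp [h0]
  simp only [this, Finset.sum_sub_distrib, Finset.sum_ite_eq', Finset.mem_univ, if_true]

theorem mu_zero_tv (h1 : RuleOne ρ) (hmu : MuOne ρ) (a f : Fin m → F) (h : f ⬝ᵥ a = 0) (ha : a ≠ 0) (hf : f ≠ 0) :
    mu ρ 0 (tv a f h) = (Module.finrank ℂ V : ℂ) - (Fintype.card F : ℂ) ^ m -
      (Fintype.card F : ℂ) ^ (m - 1) + 1 := by
  have hc := char_tv_parab h1 a f h hf 0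
  rw [T_zero, mul_one, char_emb_tv h1 a f h ha hf] at hc
  have hs : ∑ ψ : Fin m → F, (if ψ ⬝ᵥ a = 0 ∧ ψ ≠ 0 then chi F (ψ ⬝ᵥ 0) * mu ρ ψ (tv a f h) else 0) =
      ∑ ψ : Fin m → F, (if ψ ⬝ᵥ a = 0 ∧ ψ ≠ 0 then (1 : ℂ) else 0) := Finset.sum_congr rfl fun ψ _ => by
    split_ifs with h0
    · rw [hmu ψ a f h h0.2 ha hf h0.1, mul_one, dotProduct_zero, AddChar.map_zero_eq_one]
    · rfl
  rw [hs, sum_ne_zero_split a (fun _ => (1 : ℂ)), card_perp a ha] at hc
  linear_combination -hc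

theorem ruleTwo_of_muOne (hm : 1 ≤ m) (h1 : RuleOne ρ) (hmu : MuOne ρ) : RuleTwo ρ := by
  intro u f v g h₁ h₂ hgu huv hfg
  obtain ⟨a, f', w, h, ha, hf', hw, hconj⟩ := exists_conj_pair hm h₁ h₂ hgu huv hfg
  obtain ⟨c, hc⟩ := isConj_iff.mp hconj
  rw [← ρ.char_conj (tv u f h₁ * tv v g h₂) c, hc, char_tv_parab h1 a f' h hf', mu_zero_tv h1 hmu a f' h ha hf']
  have hs : ∑ ψ : Fin m → F, (if ψ ⬝ᵥ a = 0 ∧ ψ ≠ 0 then chi F (ψ ⬝ᵥ w) * mu ρ ψ (tv a f' h) else 0) =
      ∑ ψ : Fin m → F, (if ψ ⬝ᵥ a = 0 ∧ ψ ≠ 0 then chi F (ψ ⬝ᵥ w) else 0) := Finset.sum_congr rfl fun ψ _ => by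
    split_ifs with h0
    · rw [hmu ψ a f' h h0.2 ha hf' h0.1, mul_one]
    · rfl
  rw [hs, sum_ne_zero_split a (fun ψ => chi F (ψ ⬝ᵥ w)), sum_perp_chi_of_indep a w hw, zero_dotProduct,
    AddChar.map_zero_eq_one, Fintype.card_sum, Fintype.card_fin, Fintype.card_unit, Nat.add_sub_cancel,
    show m + 1 - 2 = m - 1 by omega]
  ring

theorem muOne_of_ruleTwo (h1 : RuleOne ρ) (h2 : RuleTwo ρ) : MuOne ρ := by
  intro ψ₀ a f h hψ₀ ha hf hψa
  set l := tv a f h with hl
  set d : (Fin m → F) → ℂ := fun ψ => if ψ ⬝ᵥ a = 0 ∧ ψ ≠ 0 then mu ρ ψ l - 1 else 0 with hd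
  set S : ℂ := (Module.finrank ℂ V : ℂ) - (Fintype.card F : ℂ) ^ m - (Fintype.card F : ℂ) ^ (m - 1) + 1 -
    mu ρ 0 l with hS
  have key : ∀ w : Fin m → F, ∑ ψ : Fin m → F, d ψ * chi F (ψ ⬝ᵥ w) = S := by
    intro w
    have e : ∀ ψ : Fin m → F, d ψ * chi F (ψ ⬝ᵥ w) =
        (if ψ ⬝ᵥ a = 0 ∧ ψ ≠ 0 then chi F (ψ ⬝ᵥ w) * mu ρ ψ l else 0) -
          (if ψ ⬝ᵥ a = 0 ∧ ψ ≠ 0 then chi F (ψ ⬝ᵥ w) else 0) := fun ψ => by
      simp only [hd]; split_ifs <;> ring
    simp only [e, Finset.sum_sub_distrib]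
    rw [sum_ne_zero_split a (fun ψ => chi F (ψ ⬝ᵥ w)), zero_dotProduct, AddChar.map_zero_eq_one]
    have hc := char_tv_parab h1 a f h hf w
    rw [← hl] at hc
    by_cases hw : ∃ t : F, w = t • a
    · obtain ⟨t, rfl⟩ := hw
      rw [sum_perp_chi_smul a ha t]
      have hval : ρ.character (emb l * T (t • a)) = (Module.finrank ℂ V : ℂ) - (Fintype.card F : ℂ) ^ m := by
        have hla : (l : Matrix (Fin m) (Fin m) F) *ᵥ (t • a) = t • a := by
          rw [hl, tv_mulVec, dotProduct_smul, h, smul_zero, zero_smul, add_zero]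
        have he : emb l * T (t • a) = tv (Sum.elim a 0) (Sum.elim f (fun _ => t))
            (by simpa [dotProduct, Fintype.sum_sum_type] using h) := by
          rw [emb_mul_T, hla, hl, coe_emb_tv]
        rw [he]
        have := h1 (Sum.elim a 0) (Sum.elim f fun _ => t) (by simpa [dotProduct, Fintype.sum_sum_type] using h)
          (elim_ne_zero ha) (fun h0 => hf (funext fun i => congrFun h0 (Sum.inl i)))
        rw [Fintype.card_sum, Fintype.card_fin, Fintype.card_unit, Nat.add_sub_cancel] at this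
        exact this
      rw [hval] at hc
      rw [hS]; linear_combination -hc
    · have hw' : ∀ c : F, c • a + w ≠ 0 := fun c hc0 =>
        hw ⟨-c, by rw [neg_smul]; exact eq_neg_of_add_eq_zero_right hc0⟩
      rw [sum_perp_chi_of_indep a w hw']
      have huv : LinearIndependent F ![(Sum.elim a 0 : Fin m ⊕ Unit → F), Sum.elim w 0] := by
        refine LinearIndependent.pair_iff.mpr fun c d hcd => ?_
        have h' : c • a + d • w = 0 := funext fun i => by simpa using congrFun hcd (Sum.inl i)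
        rcases eq_or_ne d 0 with rfl | hd0
        · rw [zero_smul, add_zero] at h'
          exact ⟨(smul_eq_zero.mp h').resolve_right ha, rfl⟩
        · refine absurd ?_ (hw' (d⁻¹ * c))
          have := congrArg (fun z => d⁻¹ • z) h'
          simpa [smul_add, smul_smul, inv_mul_cancel₀ hd0] using this
      have hfg : LinearIndependent F ![(Sum.elim f 0 : Fin m ⊕ Unit → F), eLast] := by
        refine LinearIndependent.pair_iff.mpr fun c d hcd => ?_
        have h' : c • f = 0 := funext fun i => by simpa [eLast] using congrFun hcd (Sum.inl i)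
        exact ⟨(smul_eq_zero.mp h').resolve_right hf, by simpa [eLast] using congrFun hcd (Sum.inr ())⟩
      have hm : m + 1 - 2 = m - 1 := by omega
      have hval := h2 _ _ _ eLast (by simpa [dotProduct, Fintype.sum_sum_type] using h : Sum.elim f 0 ⬝ᵥ Sum.elim a (0 : Unit → F) = 0)
        (eLast_dot w) (eLast_dot a) huv hfg
      rw [Fintype.card_sum, Fintype.card_fin, Fintype.card_unit, Nat.add_sub_cancel, hm] at hval
      rw [hl, emb_tv] at hc
      change ρ.character (_ * tv _ eLast _) = _ at hc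
      rw [hval, ← hl] at hc
      rw [hS]; linear_combination -hc
  have h0 : ∑ w : Fin m → F, chi F ((-ψ₀) ⬝ᵥ w) * ∑ ψ : Fin m → F, d ψ * chi F (ψ ⬝ᵥ w) = 0 := by
    simp only [key, ← Finset.sum_mul, sum_chi, neg_eq_zero, hψ₀, if_false, zero_mul]
  have h0' : d ψ₀ * (Fintype.card F : ℂ) ^ m = 0 := by
    rw [← h0]
    simp only [Finset.mul_sum]
    rw [Finset.sum_comm, Finset.sum_eq_single ψ₀]
    · have : ∀ w : Fin m → F, chi F (-ψ₀ ⬝ᵥ w) * (d ψ₀ * chi F (ψ₀ ⬝ᵥ w)) = d ψ₀ := fun w => by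
        rw [mul_left_comm, ← AddChar.map_add_eq_mul, ← add_dotProduct, neg_add_cancel, zero_dotProduct,
          AddChar.map_zero_eq_one, mul_one]
      simp only [this, Finset.sum_const, Finset.card_univ, Fintype.card_fun, Fintype.card_fin, nsmul_eq_mul]
      push_cast; ring
    · intro ψ _ hne
      have : ∀ w : Fin m → F, chi F (-ψ₀ ⬝ᵥ w) * (d ψ * chi F (ψ ⬝ᵥ w)) = d ψ * chi F ((ψ - ψ₀) ⬝ᵥ w) := fun w => by
        rw [mul_left_comm, ← AddChar.map_add_eq_mul, ← add_dotProduct, neg_add_eq_sub]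
      simp only [this, ← Finset.mul_sum, sum_chi, sub_eq_zero, hne, if_false, mul_zero]
    · simp
  have := (mul_eq_zero.mp h0').resolve_right (pow_ne_zero _ (Nat.cast_ne_zero.mpr Fintype.card_ne_zero))
  simp only [hd, if_pos (And.intro hψa hψ₀), sub_eq_zero] at this
  exact this

/-! ### descent -/

theorem finrank_fixed (h1 : RuleOne ρ) :
    (Module.finrank ℂ (LinearMap.range (proj ρ T (0 : Fin m → F))) : ℂ) =
      (Module.finrank ℂ V : ℂ) - (Fintype.card F : ℂ) ^ m + 1 := by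
  rw [finrank_fixedRep, trace_proj_zero h1]

theorem ruleOne_fixed (h1 : RuleOne ρ) (hmu : MuOne ρ) : RuleOne (fixedRep ρ) := by
  intro a f h ha hf
  rw [character_fixedRep, mu_zero_tv h1 hmu a f h ha hf, finrank_fixed h1, Fintype.card_fin]
  ring

theorem ruleTwo_fixed (h1 : RuleOne ρ) (h2 : RuleTwo ρ) (hmu : MuOne ρ) : RuleTwo (fixedRep ρ) := by
  intro u f v g h₁ h₂ hgu huv hfg
  have hf : f ≠ 0 := by simpa using hfg.ne_zero 0
  have hg : g ≠ 0 := by simpa using hfg.ne_zero 1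
  have hu : u ≠ 0 := by simpa using huv.ne_zero 0
  have hv : v ≠ 0 := by simpa using huv.ne_zero 1
  have hm : 2 ≤ m := by
    have := huv.fintype_card_le_finrank
    simpa [Module.finrank_pi] using this
  set y := tv u f h₁ * tv v g h₂ with hy
  have hfix : ∀ ψ : Fin m → F, ψ ᵥ* (y : Matrix (Fin m) (Fin m) F) = ψ ↔ ψ ⬝ᵥ u = 0 ∧ ψ ⬝ᵥ v = 0 := by
    intro ψ
    rw [hy, Matrix.SpecialLinearGroup.coe_mul, ← vecMul_vecMul, vecMul_tv, vecMul_tv]
    constructor
    · intro h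
      have h' : (ψ ⬝ᵥ u) • f + ((ψ + (ψ ⬝ᵥ u) • f) ⬝ᵥ v) • g = 0 := by
        have := sub_eq_zero.mpr h
        rw [← this]; module
      obtain ⟨hA, hB⟩ := LinearIndependent.pair_iff.mp hfg _ _ h'
      rw [hA, zero_smul, add_zero] at hB
      exact ⟨hA, hB⟩
    · rintro ⟨hA, hB⟩
      simp [hA, hB]
  have hval : ρ.character (emb y) = (Module.finrank ℂ V : ℂ) -
      (Fintype.card F : ℂ) ^ m - (Fintype.card F : ℂ) ^ (m - 1) := by
    rw [hy, map_mul, emb_tv, emb_tv]
    have li : ∀ x z : Fin m → F, LinearIndependent F ![x, z] →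
        LinearIndependent F ![(Sum.elim x 0 : Fin m ⊕ Unit → F), Sum.elim z 0] := fun x z hxz => by
      refine LinearIndependent.pair_iff.mpr fun c d hcd => LinearIndependent.pair_iff.mp hxz c d ?_
      exact funext fun i => by simpa using congrFun hcd (Sum.inl i)
    have := h2 (Sum.elim u 0) (Sum.elim f 0) (Sum.elim v 0) (Sum.elim g 0)
      (by simpa [dotProduct, Fintype.sum_sum_type] using h₁) (by simpa [dotProduct, Fintype.sum_sum_type] using h₂)
      (by simpa [dotProduct, Fintype.sum_sum_type] using hgu) (li u v huv) (li f g hfg)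
    rw [Fintype.card_sum, Fintype.card_fin, Fintype.card_unit, Nat.add_sub_cancel,
      show m + 1 - 2 = m - 1 by omega] at this
    exact this
  have hpar := char_parab ρ y 0
  rw [T_zero, mul_one, hval] at hpar
  simp only [dotProduct_zero, AddChar.map_zero_eq_one, one_mul] at hpar
  have hsum : ∑ ψ : Fin m → F, mu ρ ψ y =
      mu ρ 0 y + ((Fintype.card F : ℂ) ^ (m - 2) - 1) := by
    have : ∀ ψ : Fin m → F, mu ρ ψ y = (if ψ = 0 then mu ρ 0 y - 1 else 0) +
        (if ψ ⬝ᵥ u = 0 ∧ ψ ⬝ᵥ v = 0 then (1 : ℂ) else 0) := by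
      intro ψ
      rcases eq_or_ne ψ 0 with rfl | hψ
      · simp
      rw [if_neg hψ, zero_add]
      split_ifs with hc
      · rw [hy, mu_mul ρ (trace_proj_ne h1 hψ) ((fixed_tv_iff ψ u f h₁ hf).mpr hc.1) _
          ((fixed_tv_iff ψ v g h₂ hg).mpr hc.2), hmu ψ u f h₁ hψ hu hf hc.1, hmu ψ v g h₂ hψ hv hg hc.2, one_mul]
      · exact mu_eq_zero ρ fun h => hc ((hfix ψ).mp h)
    rw [Finset.sum_congr rfl fun ψ _ => this ψ, Finset.sum_add_distrib, Finset.sum_ite_eq',
      if_pos (Finset.mem_univ _), card_perp_two u v huv]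
    ring
  rw [hsum] at hpar
  rw [character_fixedRep, finrank_fixed h1, Fintype.card_fin]
  linear_combination -hpar

/-! ### transport and the bound -/

/-- Reindexing `SL`. -/
def reindexSL {ι κ : Type*} [Fintype ι] [DecidableEq ι] [Fintype κ] [DecidableEq κ] (e : ι ≃ κ) :
    SpecialLinearGroup κ F →* SpecialLinearGroup ι F where
  toFun g := ⟨(g : Matrix κ κ F).submatrix e e, by rw [Matrix.det_submatrix_equiv_self]; exact g.det_coe⟩
  map_one' := Subtype.ext (by simp [Matrix.submatrix_one_equiv])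
  map_mul' a b := Subtype.ext (by
    show _ = Matrix.submatrix _ _ _ * Matrix.submatrix _ _ _
    rw [Matrix.submatrix_mul_equiv]; rfl)

theorem reindexSL_tv {ι κ : Type*} [Fintype ι] [DecidableEq ι] [Fintype κ] [DecidableEq κ] (e : ι ≃ κ)
    (u f : κ → F) (h : f ⬝ᵥ u = 0) :
    reindexSL e (tv u f h) = tv (u ∘ e) (f ∘ e) (by rw [← h]; exact comp_equiv_dotProduct_comp_equiv f u e) := by
  apply Subtype.ext
  show (tv u f h : Matrix κ κ F).submatrix e e = _
  rw [coe_tv, coe_tv]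
  ext i j
  simp [vecMulVec_apply, Matrix.one_apply]

theorem comp_pair_indep {ι κ : Type*} (e : ι ≃ κ) {u v : κ → F} (h : LinearIndependent F ![u, v]) :
    LinearIndependent F ![u ∘ e, v ∘ e] := by
  refine LinearIndependent.pair_iff.mpr fun c d hcd => LinearIndependent.pair_iff.mp h c d ?_
  funext i
  simpa using congrFun hcd (e.symm i)

theorem comp_ne_zero {ι κ : Type*} (e : ι ≃ κ) {u : κ → F} (h : u ≠ 0) : u ∘ e ≠ 0 :=
  fun h0 => h (funext fun i => by simpa using congrFun h0 (e.symm i))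

theorem ruleOne_reindex {ι κ : Type*} [Fintype ι] [DecidableEq ι] [Fintype κ] [DecidableEq κ] (e : ι ≃ κ)
    {σ : Representation ℂ (SpecialLinearGroup ι F) V} (h1 : RuleOne σ) : RuleOne (σ.comp (reindexSL e)) := by
  intro u f h hu hf
  show σ.character (reindexSL e (tv u f h)) = _
  rw [reindexSL_tv, h1 _ _ _ (comp_ne_zero e hu) (comp_ne_zero e hf), Fintype.card_congr e]

theorem ruleTwo_reindex {ι κ : Type*} [Fintype ι] [DecidableEq ι] [Fintype κ] [DecidableEq κ] (e : ι ≃ κ)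
    {σ : Representation ℂ (SpecialLinearGroup ι F) V} (h2 : RuleTwo σ) : RuleTwo (σ.comp (reindexSL e)) := by
  intro u f v g h₁ h₂ hgu huv hfg
  show σ.character (reindexSL e (tv u f h₁ * tv v g h₂)) = _
  rw [map_mul, reindexSL_tv, reindexSL_tv, h2 _ _ _ _ _ _
    (by rw [← hgu]; exact comp_equiv_dotProduct_comp_equiv g u e) (comp_pair_indep e huv) (comp_pair_indep e hfg),
    Fintype.card_congr e]

theorem chain_bound : ∀ (n : ℕ) (W : Type v) [AddCommGroup W] [Module ℂ W] [FiniteDimensional ℂ W]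
    (σ : Representation ℂ (SpecialLinearGroup (Fin n) F) W), RuleOne σ → RuleTwo σ →
    ∑ i ∈ Finset.range n, (Fintype.card F ^ i - 1) ≤ Module.finrank ℂ W := by
  intro n
  induction n with
  | zero => intro W _ _ _ σ _ _; simp
  | succ m ih =>
    intro W _ _ _ σ h1 h2
    let e : Fin (m + 1) ≃ Fin m ⊕ Unit :=
      finSumFinEquiv.symm.trans (Equiv.sumCongr (Equiv.refl _) (Equiv.ofUnique _ _))
    have h1' := ruleOne_reindex e h1
    have h2' := ruleTwo_reindex e h2
    have hmu := muOne_of_ruleTwo h1' h2'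
    have hd := finrank_fixed h1'
    have hb := ih _ _ (ruleOne_fixed h1' hmu) (ruleTwo_fixed h1' h2' hmu)
    have hnat : Module.finrank ℂ (LinearMap.range (proj (σ.comp (reindexSL e)) T (0 : Fin m → F))) +
        Fintype.card F ^ m = Module.finrank ℂ W + 1 := by
      exact_mod_cast (by rw [hd]; ring :
        (Module.finrank ℂ (LinearMap.range (proj (σ.comp (reindexSL e)) T (0 : Fin m → F))) : ℂ) +
          (Fintype.card F : ℂ) ^ m = (Module.finrank ℂ W : ℂ) + 1)
    rw [Finset.sum_range_succ]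
    have : 1 ≤ Fintype.card F ^ m := Nat.one_le_pow _ _ Fintype.card_pos
    omega

end CfsgLib.SLMinDeg
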